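import Cfsg.Agent.Omega.NO3b.EndX.LemN
import Cfsg.Agent.Omega.NO3b.Closed.Strong

/-!
# The exact end of NotFF (v2) (helper410, THEOREM END): the contradiction

* `SecAt S V D lam` : P1's result: the section `(H, M)` of `(C_G(D), ⟨V^{C_G(D)}⟩ / D)` with `Abs`;
* `out_false` : `Out` is impossible, given `SecAt`, `AbsP` and the strong fix;
* `fixS` : the strong fix for `Z = Ω₁Z(S)`.
-/

set_option autoImplicit false

namespace Cfsg.Agent.Omega.NO3b.EndX

open Subgroup Cfsg Cfsg.Agent.ZN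
open Cfsg.Agent.Omega.NO3b.EZero (cl cl_le le_normalizer_cl)
open Cfsg.Agent.Omega.NO3b.ClosedPt (Flag RR Clo End Out FixS)

universe u

/-- the section at `D` -/
def SecAt {G : Type u} [Group G] (S V D lam : Subgroup G) : Prop :=
  ∃ (X U : Subgroup G) (H : Type u) (_ : Group H) (_ : Finite H) (M : Type u) (_ : Group M) (_ : Finite M)
    (_ : MulDistribMulAction H M) (π : X →* H) (p : U →* M) (B Y : Subgroup H),
    Sec (S ⊓ centralizer (D : Set G)) D X U lam π p ∧ IsKGroup H ∧ OddFree H ∧ U ≤ cl V (centralizer (D : Set G)) ∧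
      Abs (((S ⊓ centralizer (D : Set G)).subgroupOf X).map π) B Y ((lam.subgroupOf U).map p)

/-- **THEOREM END, (8)** -/
theorem out_false {G : Type u} [Group G] [Finite G] {S Z V D B lam T₀ : Subgroup G} (e : End S Z V D B)
    (o : Out e lam T₀) (hs : FixS S Z V) (h : AbsP.{u, u}) (hX : SecAt S V D lam) : False := by
  obtain ⟨X, U, H, _, _, M, _, _, _, π, p, B', Y, s, hK, hF, hU, ab⟩ := hX
  have r : RR S Z V D := e.clo.toRR
  have hXZ : X ≤ centralizer (Z : Set G) := s.XD.trans r.CD_le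
  have hodd : ¬ 2 ∣ (S ⊓ centralizer (D : Set G)).relIndex X := fun h0 =>
    r.odd (h0.trans (Dvd.intro _ (relIndex_mul_relIndex _ X (centralizer (D : Set G)) s.TX s.XD)))
  exact s.false_of ab (h H M _ B' Y _ hK hF ab) (e.flag.two.to_le inf_le_left) hodd (hU.trans r.cl_le_cl)
    e.flag.Wcomm e.flag.Wsq (hXZ.trans (le_normalizer_cl _ _)) o.good.comm o.good.inf
    fun w hw hf x hx => r.strong e.flag hs w hw hf x (s.XD hx)

/-- the strong fix for `Z = Ω₁Z(S)` -/
theorem fixS {G : Type u} [Group G] [Finite G] {S V : Subgroup G} (f : Flag S (zc S) V) : FixS S (zc S) V := by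
  refine FixS.of_le fun w hw hf => ?_
  have h1 : cl V (centralizer (zc S : Set G)) ≤ S := by
    refine (cl_le fun c hc => (ChoiceBase.cj_mono c f.Vo).trans ?_).trans (ChoiceSit.o2_le_syl f.syl)
    exact (ChoiceBase.cj_eq_of_mem_normalizer (ChoiceSit.le_normalizer_o2 _ hc)).le
  refine MinSimple.VModule.mem_zc.2 ⟨h1 hw, hf, ?_⟩
  rw [pow_two]
  exact f.Wsq w hw

end Cfsg.Agent.Omega.NO3b.EndX
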