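import Cfsg.Agent.Omega.ML.Final
import Cfsg.Agent.Omega.ML.Ex.Def
import Cfsg.Agent.Omega.FFBr.Def

/-!
# The exact end of NotFF (v2) at a closed point: the abstract statements (helper410, THEOREM END)

`H` finite, faithful on the elementary abelian 2-group `M`, `T` a Sylow 2-subgroup, `lam ≤ C_M(T)` of order at least 4,
all `v ∈ lam \ 1` have the same stabiliser `Y < H`, `M = ⟨lam^H⟩`, `B ≤ T` elementary abelian, `B ≠ 1`, `B ≤ O₂(R)` for all
`T ≤ R < H`, `B` exact on all `⟨v^H⟩`, `|M : C_M(B)| < |B|²`.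

* `oo H` : `O²(H)`;  `odd H M` (of `FFBr`) : `C_M(O²(H))`;
* `Abs` : this situation;  `AbsI` : the same with `M` irreducible;
* `P2 T lam` : `v' ∈ ⟨v^{N_H(T ∩ O²(H))}⟩ C_M(O²(H))` for all `v ∈ lam \ 1`, `v' ∈ lam`;
* `OddFree H` : no normal subgroup `≠ 1` of odd order (at a closed point: from the labels and the strong fix);
* `AbsP`, `AbsIP` : the statements `Abs → P2`, `AbsI → P2` for K-groups with `OddFree`;
* `AbsI.Nmax` : `T` lies in a unique maximal subgroup; `MinP`, `RedP` : the two cases of `AbsIP`;  `absIP_of`.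
-/

set_option autoImplicit false

namespace Cfsg.Agent.Omega.NO3b.EndX

open Subgroup Cfsg Cfsg.Agent.ZN Cfsg.Agent.ClassTwoFusion.Quad Cfsg.Agent.Omega.ML.MinFrame
open Cfsg.Agent.Omega.FFBr (odd mem_odd)

universe u v

/-- `O²(H)` -/
def oo (H : Type u) [Group H] : Subgroup H := closure {x : H | Odd (orderOf x)}

/-- the abstract exact end -/
structure Abs {H : Type u} [Group H] {M : Type v} [Group M] [MulDistribMulAction H M] (T B Y : Subgroup H)
    (lam : Subgroup M) : Prop where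
  sq : ∀ m : M, m * m = 1
  faith : ∀ h : H, (∀ m : M, h • m = m) → h = 1
  two : IsPGroup 2 T
  syl : ¬ 2 ∣ T.index
  stab : ∀ v ∈ lam, v ≠ 1 → ∀ h : H, h • v = v ↔ h ∈ Y
  TY : T ≤ Y
  Yne : Y ≠ ⊤
  four : 4 ≤ Nat.card lam
  gen : ∀ U : Subgroup M, (∀ h : H, ∀ v ∈ lam, h • v ∈ U) → U = ⊤
  BT : B ≤ T
  Bne : B ≠ ⊥
  el : ∀ b ∈ B, b * b = 1
  low : ∀ R : Subgroup H, T ≤ R → R ≠ ⊤ → B ≤ o2 R
  exact : ∀ v ∈ lam, v ≠ 1 → (cv M (B : Set H)).relIndex (orb (⊤ : Subgroup H) v) = Nat.card B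
  lt : (cv M (B : Set H)).index < Nat.card B ^ 2

/-- the abstract exact end, `M` irreducible -/
structure AbsI {H : Type u} [Group H] {M : Type v} [Group M] [MulDistribMulAction H M] (T B Y : Subgroup H)
    (lam : Subgroup M) : Prop where
  sq : ∀ m : M, m * m = 1
  faith : ∀ h : H, (∀ m : M, h • m = m) → h = 1
  irr : ∀ W : Subgroup M, (∀ h : H, ∀ w ∈ W, h • w ∈ W) → W = ⊥ ∨ W = ⊤
  two : IsPGroup 2 T
  syl : ¬ 2 ∣ T.index
  stab : ∀ v ∈ lam, v ≠ 1 → ∀ h : H, h • v = v ↔ h ∈ Y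
  TY : T ≤ Y
  Yne : Y ≠ ⊤
  four : 4 ≤ Nat.card lam
  BT : B ≤ T
  Bne : B ≠ ⊥
  el : ∀ b ∈ B, b * b = 1
  low : ∀ R : Subgroup H, T ≤ R → R ≠ ⊤ → B ≤ o2 R
  exact : (cv M (B : Set H)).index = Nat.card B

/-- the conclusion: `v' ∈ ⟨v^{N_H(T ∩ O²(H))}⟩ C_M(O²(H))` -/
def P2 {H : Type u} [Group H] {M : Type v} [Group M] [MulDistribMulAction H M] (T : Subgroup H)
    (lam : Subgroup M) : Prop :=
  ∀ v ∈ lam, v ≠ 1 → ∀ v' ∈ lam,
    v' ∈ closure {m : M | ∃ n ∈ normalizer ((T ⊓ oo H : Subgroup H) : Set H), m = n • v} ⊔ odd H M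

/-- no normal subgroup `≠ 1` of odd order -/
def OddFree (H : Type u) [Group H] : Prop := ∀ F : Subgroup H, F.Normal → Odd (Nat.card F) → F = ⊥

/-- the statement for `Abs` -/
def AbsP : Prop :=
  ∀ (H : Type u) [Group H] [Finite H] (M : Type v) [Group M] [Finite M] [MulDistribMulAction H M]
    (T B Y : Subgroup H) (lam : Subgroup M), IsKGroup H → OddFree H → Abs T B Y lam → P2 T lam

/-- the statement for `AbsI` -/
def AbsIP : Prop :=
  ∀ (H : Type u) [Group H] [Finite H] (M : Type v) [Group M] [Finite M] [MulDistribMulAction H M]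
    (T B Y : Subgroup H) (lam : Subgroup M), IsKGroup H → OddFree H → AbsI T B Y lam → P2 T lam

/-- `T` lies in a unique maximal subgroup -/
def Nmax {H : Type u} [Group H] (T : Subgroup H) : Prop :=
  ∃ N : Subgroup H, N ≠ ⊤ ∧ ∀ R : Subgroup H, T ≤ R → R ≠ ⊤ → R ≤ N

/-- case 1: `T` lies in a unique maximal subgroup -/
def MinP : Prop :=
  ∀ (H : Type u) [Group H] [Finite H] (M : Type v) [Group M] [Finite M] [MulDistribMulAction H M]
    (T B Y : Subgroup H) (lam : Subgroup M), IsKGroup H → AbsI T B Y lam → Nmax T → P2 T lam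

/-- case 2: `T` lies in at least two maximal subgroups -/
def RedP : Prop :=
  ∀ (H : Type u) [Group H] [Finite H] (M : Type v) [Group M] [Finite M] [MulDistribMulAction H M]
    (T B Y : Subgroup H) (lam : Subgroup M), IsKGroup H → OddFree H → AbsI T B Y lam → ¬ Nmax T → P2 T lam

theorem absIP_of (h1 : MinP.{u, v}) (h2 : RedP.{u, v}) : AbsIP.{u, v} := by
  intro H _ _ M _ _ _ T B Y lam hK hO h
  by_cases hn : Nmax T
  · exact h1 H M T B Y lam hK h hn
  · exact h2 H M T B Y lam hK hO h hn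

end Cfsg.Agent.Omega.NO3b.EndX
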