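import Cfsg.Agent.Omega.NO3S.Fld.RootTr
import Cfsg.Agent.Omega.NO3b.EndX.Def
import Cfsg.Agent.Omega.FFBr.Final

/-!
# The exact end, part (6): the Sylow 2-subgroup is in only one maximal subgroup

`X` acts faithfully and irreducibly on the elementary abelian 2-group `V`, the Sylow 2-subgroup `T` is in only one
maximal subgroup of `X` and contains an offender. Then any two nontrivial fixed points of `T` are conjugate under the
normalizer of `T ∩ K`, for every normal subgroup `K ≤ O²(X)` (`minP`).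

* `minP_of : FFBr.AStmt → MinP`, `minP_all : MinP` : part P5 of THEOREM END (helper410).
-/

set_option autoImplicit false
set_option linter.unusedSectionVars false

namespace Cfsg.Agent.Omega.NO3b.EndX

open Subgroup Cfsg.Agent.Lib.SL2Mat Cfsg.Agent.Omega.FFBr
open Cfsg.Agent.Omega.NatPair (ap ap_mul ap_one ap_inv_ap ap_zero' ap_one')
open Cfsg.Agent.Omega.NO3b.EndFix Cfsg.Agent.Omega.NO3b.EndFix.Lift
open Cfsg.Agent.Omega.NO3S.Fld

universe u

section nat

variable {X V : Type*} [Group X] [Finite X] [Group V] [Finite V] [MulDistribMulAction X V] {T B : Subgroup X}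
  {F : Type} [Field F] [Finite F] [CharP F 2] {k : ℕ}

theorem nat_fix_one (n : AbsNat F T V k) {v : V} (hv : ∀ t ∈ T, t • v = v) (i : Fin k) : n.e v i 1 = 0 := by
  obtain ⟨t, ht, ha⟩ := n.unip fun _ => 1
  have h1 := ha.1 v i
  rw [hv t ht] at h1
  have h2 := congrFun h1 0
  rw [ap_zero'] at h2
  simpa using h2

theorem nat_fix_zero (L : Lift (MonoidHom.id V) T B) (n : AbsNat F T V k) {v : V} (hv : ∀ t ∈ T, t • v = v)
    (h1 : v ≠ 1) (i : Fin k) : n.e v i 0 ≠ 0 := by
  intro h0
  apply h1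
  have hi : n.e v i = 0 := by
    funext j
    fin_cases j
    · exact h0
    · exact nat_fix_one n hv i
  refine L.e_inj n ?_
  rw [e_one]
  funext j
  obtain ⟨t, ht, h2⟩ := n.trans i j
  have h3 := (h2 v).2 hi
  rwa [hv t ht] at h3

/-- the elements which act as elements of `SL₂(F)^k` -/
def KK (n : AbsNat F T V k) : Subgroup X where
  carrier := {g | ∃ A, Co n g A}
  one_mem' := ⟨_, Co.one n⟩
  mul_mem' := fun {_ _} ⟨_, h⟩ ⟨_, h'⟩ => ⟨_, h.mul h'⟩
  inv_mem' := fun {_} ⟨_, h⟩ => ⟨_, h.inv⟩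

theorem KK_normal (n : AbsNat F T V k) : (KK n).Normal :=
  ⟨fun h ⟨A, hA⟩ g => n.norm g h A hA⟩

theorem KK_sup (n : AbsNat F T V k) : T ⊔ KK n = ⊤ :=
  n.gen _ le_sup_left fun _ A hA => (le_sup_right : KK n ≤ T ⊔ KK n) ⟨A, hA.1⟩

theorem eq_one_of_pow {a : F} {j : ℕ} (h : a ^ 2 ^ j = 1) : a = 1 := by
  have h1 : (a - 1) ^ 2 ^ j = 0 := by rw [sub_pow_char_pow, h, one_pow, sub_self]
  exact sub_eq_zero.1 (pow_eq_zero_iff (pow_ne_zero _ two_ne_zero) |>.1 h1)

theorem ent_pow_of {A : Matrix.SpecialLinearGroup (Fin 2) F} (h : ent A 1 0 = 0) (j : ℕ) :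
    ent (A ^ j) 0 0 = ent A 0 0 ^ j ∧ ent (A ^ j) 1 0 = 0 := by
  induction j with
  | zero => exact ⟨by rw [pow_zero, pow_zero, ent_one_00], by rw [pow_zero, ent_one_10]⟩
  | succ j ih =>
    rw [pow_succ', ent_mul, ent_mul, ih.1, ih.2, h, pow_succ']
    exact ⟨by ring, by ring⟩

/-- an element of `T` in `SL₂(F)^k` is upper unitriangular -/
theorem exists_up (L : Lift (MonoidHom.id V) T B) (n : AbsNat F T V k) {x : X} (hx : x ∈ T) (hK : x ∈ KK n) :
    ∃ b : Fin k → F, Co n x fun i => up (b i) := by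
  obtain ⟨A, hA⟩ := hK
  obtain ⟨σ, hσ⟩ := n.line x hx
  have h1 : ∀ i, σ i = i := by
    intro i
    by_contra hne
    obtain ⟨v, hv⟩ := n.surj (Pi.single (σ i) (ap (A (σ i))⁻¹ ![0, 1]))
    have h2 := hσ v i
    rw [hA v (σ i), hv, Pi.single_eq_same, Pi.single_eq_of_ne (Ne.symm hne)] at h2
    have h3 := h2.2 rfl
    have h4 : ap (A (σ i)) (ap (A (σ i))⁻¹ ![0, 1]) = ![(0 : F), 1] := by
      rw [← ap_mul, mul_inv_cancel, ap_one]
    rw [h4] at h3
    exact one_ne_zero h3
  have h10 : ∀ i, ent (A i) 1 0 = 0 := by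
    intro i
    obtain ⟨v, hv⟩ := n.surj (Pi.single i ![1, 0])
    have h2 := hσ v i
    rw [h1, hA v i, hv, Pi.single_eq_same, ap_one'] at h2
    have h3 := h2.2 rfl
    simpa using h3
  have h00 : ∀ i, ent (A i) 0 0 = 1 := by
    intro i
    obtain ⟨j, hj⟩ := L.pT ⟨x, hx⟩
    have hj' : x ^ 2 ^ j = 1 := congrArg Subtype.val hj
    have hp : ∀ l : ℕ, Co n (x ^ l) fun i => A i ^ l := by
      intro l
      induction l with
      | zero =>
        simp only [pow_zero]
        exact Co.one n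
      | succ l ih =>
        simp only [pow_succ]
        exact ih.mul hA
    have h2 := hp (2 ^ j)
    rw [hj'] at h2
    obtain ⟨v, hv⟩ := n.surj (Pi.single i ![1, 0])
    have h3 := h2 v i
    rw [one_smul, hv, Pi.single_eq_same] at h3
    have h4 := congrFun h3 0
    rw [ap_zero', (ent_pow_of (h10 i) _).1] at h4
    exact eq_one_of_pow (j := j) (by simpa using h4.symm)
  have h11 : ∀ i, ent (A i) 1 1 = 1 := by
    intro i
    have h2 := det_eq (A i)
    rw [h00, h10, one_mul, mul_zero, sub_zero] at h2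
    exact h2
  refine ⟨fun i => ent (A i) 0 1, fun v i => ?_⟩
  rw [hA v i]
  congr 1
  exact ext_ent (h00 i) rfl (h10 i) (h11 i)

theorem dg_conj {c : F} (hc : c ≠ 0) (b : F) : dg c hc * up b * (dg c hc)⁻¹ = up (c * c * b) := by
  rw [mul_inv_eq_iff_eq_mul]
  refine ext_ent ?_ ?_ ?_ ?_
  · rw [ent_mul, ent_mul]; simp
  · rw [ent_mul, ent_mul]; simp; field_simp
  · rw [ent_mul, ent_mul]; simp
  · rw [ent_mul, ent_mul]; simp

theorem nat_case (L : Lift (MonoidHom.id V) T B) (n : AbsNat F T V k) {K : Subgroup X} (hK : K.Normal)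
    (hK2 : K ≤ KK n) {v w : V} (hv : ∀ t ∈ T, t • v = v) (hw : ∀ t ∈ T, t • w = w) (hv1 : v ≠ 1) (hw1 : w ≠ 1) :
    ∃ g ∈ normalizer ((T ⊓ K : Subgroup X) : Set X), g • v = w := by
  have v0 := nat_fix_zero L n hv hv1
  have w0 := nat_fix_zero L n hw hw1
  have hc : ∀ i, n.e w i 0 / n.e v i 0 ≠ 0 := fun i => div_ne_zero (w0 i) (v0 i)
  obtain ⟨g, hg⟩ := exists_co n fun i => dg (n.e w i 0 / n.e v i 0) (hc i)
  refine ⟨g, ?_, ?_⟩
  · have key : ∀ x ∈ T ⊓ K, g * x * g⁻¹ ∈ T ⊓ K := by
      rintro x ⟨hx, hxK⟩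
      obtain ⟨b, hb⟩ := exists_up L n hx (hK2 hxK)
      obtain ⟨t, ht, hta⟩ := n.unip fun i => (n.e w i 0 / n.e v i 0) * (n.e w i 0 / n.e v i 0) * b i
      have h1 : g * x * g⁻¹ = t := by
        refine Co.eq L n ((hg.mul hb).mul hg.inv) ?_
        intro u i
        rw [hta.1 u i]
        simp only [dg_conj]
      exact ⟨by rw [h1]; exact ht, hK.conj_mem x hxK g⟩
    exact Subgroup.mem_normalizer_fintype key
  · refine L.e_inj n (funext fun i => ?_)
    rw [hg v i]
    funext j
    fin_cases j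
    · change ap _ _ 0 = n.e w i 0
      rw [ap_zero', nat_fix_one n hv]
      simp [v0 i]
    · change ap _ _ 1 = n.e w i 1
      rw [ap_one', nat_fix_one n hv, nat_fix_one n hw]
      simp

end nat

section sym

variable {X V : Type*} [Group X] [Finite X] [Group V] [Finite V] [MulDistribMulAction X V] {T : Sylow 2 X}
  {B : Subgroup X} {k m : ℕ}

theorem sym_case (L : Lift (MonoidHom.id V) (T : Subgroup X) B) (s : AbsSym (T : Subgroup X) V k m) (hm : 2 ≤ m)
    {v w : V} (hv : ∀ t ∈ T, t • v = v) (hw : ∀ t ∈ T, t • w = w) (hv1 : v ≠ 1) (hw1 : w ≠ 1) : v = w := by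
  have hpos : 0 < 2 ^ m := pow_pos two_pos m
  -- a fixed point is constant on the points `≠ 0`
  have h1 : ∀ u : V, (∀ t ∈ T, t • u = u) → ∀ i j (x y : Fin (2 ^ m + 1)), x ≠ 0 → y ≠ 0 → s.e u i x = s.e u j y := by
    intro u hu i j x y hx hy
    obtain ⟨t, ht, σ, τ, h2, h3, h4⟩ := trans_pts L s hm i j hx hy
    have h5 := h2 u i x
    rw [hu t ht, h3, h4] at h5
    exact h5.symm
  have h2 : ∀ u : V, (∀ t ∈ T, t • u = u) → ∀ i, s.e u i 0 = 0 := by
    intro u hu i
    have h3 := s.even u i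
    rw [Fin.sum_univ_succ] at h3
    have h4 : ∀ x : Fin (2 ^ m), s.e u i x.succ = s.e u i (Fin.succ ⟨0, hpos⟩) := fun x =>
      h1 u hu i i _ _ (Fin.succ_ne_zero _) (Fin.succ_ne_zero _)
    rw [Finset.sum_congr rfl fun x _ => h4 x, Finset.sum_const, Finset.card_univ, Fintype.card_fin] at h3
    have h6 : ∀ a : ZMod 2, (2 ^ m) • a = 0 := by
      intro a
      obtain ⟨l, rfl⟩ : ∃ l, m = l + 1 := ⟨m - 1, by omega⟩
      rw [pow_succ, mul_smul, two_nsmul, CharTwo.add_self_eq_zero, smul_zero]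
    have h5 := h6 (s.e u i (Fin.succ ⟨0, hpos⟩))
    rwa [h5, add_zero] at h3
  have h3 : ∀ u : V, (∀ t ∈ T, t • u = u) → u ≠ 1 → ∀ i x, x ≠ 0 → s.e u i x = 1 := by
    intro u hu hu1 i x hx
    rcases (by decide : ∀ a : ZMod 2, a = 0 ∨ a = 1) (s.e u i x) with h0 | h0
    · exfalso
      apply hu1
      refine s_inj L s ?_
      rw [s_one]
      funext j y
      rcases eq_or_ne y 0 with rfl | hy
      · exact h2 u hu j
      · rw [h1 u hu j i y x hy hx, h0]
        rfl
    · exact h0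
  refine s_inj L s (funext fun i => funext fun x => ?_)
  rcases eq_or_ne x 0 with rfl | hx
  · rw [h2 v hv, h2 w hw]
  · rw [h3 v hv hv1 i x hx, h3 w hw hw1 i x hx]

end sym

variable {X V : Type u} [Group X] [Finite X] [Group V] [Finite V] [MulDistribMulAction X V]

/-- **(6) of THEOREM END.** -/
theorem minP (hA : FFBr.AStmt.{u}) {T : Sylow 2 X} {M B : Subgroup X} (sq : ∀ v : V, v * v = 1)
    (faith : ∀ x : X, (∀ v : V, x • v = v) → x = 1)
    (irr : ∀ W : Subgroup V, (∀ (x : X), ∀ v ∈ W, x • v ∈ W) → W = ⊥ ∨ W = ⊤)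
    (hTM : (T : Subgroup X) ≤ M) (hM : M ≠ ⊤) (hmax : ∀ K : Subgroup X, (T : Subgroup X) ≤ K → K ≤ M ∨ K = ⊤)
    (hBT : B ≤ T) (hB : AOff V B) {K : Subgroup X} (hK : K.Normal)
    (hK2 : ∀ N : Subgroup X, N.Normal → (T : Subgroup X) ⊔ N = ⊤ → K ≤ N)
    {v w : V} (hv : ∀ t ∈ T, t • v = v) (hw : ∀ t ∈ T, t • w = w) (hv1 : v ≠ 1) (hw1 : w ≠ 1) :
    ∃ n ∈ normalizer (((T : Subgroup X) ⊓ K : Subgroup X) : Set X), n • v = w := by
  have comm : ∀ a b : V, a * b = b * a := fun a b => by
    have h1 := sq (a * b)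
    have ha : a⁻¹ = a := inv_eq_of_mul_eq_one_left (sq a)
    have hb : b⁻¹ = b := inv_eq_of_mul_eq_one_left (sq b)
    have h2 : (a * b)⁻¹ = a * b := inv_eq_of_mul_eq_one_left h1
    rw [mul_inv_rev, ha, hb] at h2
    exact h2.symm
  have h2V : IsPGroup 2 V := fun a => ⟨1, by rw [pow_one, pow_two]; exact sq a⟩
  by_cases hfix : ∀ x : X, x • v = v
  · -- `V` has order 2
    refine ⟨1, one_mem _, ?_⟩
    rw [one_smul]
    have h1 : closure {v} = (⊤ : Subgroup V) := by
      refine (irr _ ?_).resolve_left ?_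
      · intro x u hu
        refine closure_induction (p := fun u _ => x • u ∈ closure {v}) ?_ ?_ ?_ ?_ hu
        · intro u hu
          rw [Set.mem_singleton_iff.1 hu, hfix]
          exact subset_closure rfl
        · rw [smul_one]
          exact one_mem _
        · intro a b _ _ ha hb
          rw [smul_mul']
          exact mul_mem ha hb
        · intro a _ ha
          rw [smul_inv']
          exact inv_mem ha
      · intro h0
        exact hv1 (closure_eq_bot_iff.1 h0 rfl)
    have h2 : w ∈ closure {v} := by rw [h1]; exact mem_top _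
    rw [← zpowers_eq_closure, mem_zpowers_iff] at h2
    obtain ⟨j, rfl⟩ := h2
    rcases Int.even_or_odd' j with ⟨l, rfl | rfl⟩
    · exfalso
      apply hw1
      rw [zpow_mul, zpow_two, sq, one_zpow]
    · rw [zpow_add, zpow_mul, zpow_two, sq, one_zpow, one_mul, zpow_one]
  push Not at hfix
  have core : ∀ N : Subgroup X, N.Normal → IsPGroup 2 N → N = ⊥ := by
    intro N hN hN2
    let W : Subgroup V :=
      { carrier := {u | ∀ x ∈ N, x • u = u}
        one_mem' := fun x _ => smul_one x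
        mul_mem' := fun {a b} ha hb x hx => by rw [smul_mul', ha x hx, hb x hx]
        inv_mem' := fun {a} ha x hx => by rw [smul_inv', ha x hx] }
    have hmem : ∀ u, u ∈ W ↔ ∀ x ∈ N, x • u = u := fun _ => Iff.rfl
    have h1 : W = ⊤ := by
      refine (irr W ?_).resolve_left ?_
      · intro x u hu
        rw [hmem]
        intro y hy
        have h3 := (hmem u).1 hu (x⁻¹ * y * x) (by simpa using hN.conj_mem y hy x⁻¹)
        rw [mul_assoc, mul_smul, inv_smul_eq_iff, mul_smul] at h3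
        exact h3
      · intro h0
        have hne : (⊤ : Subgroup V) ≠ ⊥ := by
          intro h4
          apply hv1
          have : v ∈ (⊤ : Subgroup V) := mem_top _
          rwa [h4, mem_bot] at this
        obtain ⟨d, -, hd1, hd⟩ := exists_fixed hN2 h2V hne fun _ _ _ _ => mem_top _
        have h5 : d ∈ W := (hmem d).2 hd
        rw [h0, mem_bot] at h5
        exact hd1 h5
    refine (Subgroup.eq_bot_iff_forall _).2 fun x hx => faith x fun u => ?_
    have h2 : u ∈ W := by rw [h1]; exact mem_top _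
    exact (hmem u).1 h2 x hx
  have habs : FFBr.Abs X V T M :=
    { comm := comm
      sq := sq
      faith := faith
      core := core
      TM := hTM
      Mne := hM
      max := hmax
      gen := by
        intro W hW
        have h1 : closure {u : V | ∃ x : X, u = x • v} = (⊤ : Subgroup V) := by
          refine (irr _ ?_).resolve_left ?_
          · intro x u hu
            refine closure_induction (p := fun u _ => x • u ∈ closure {u : V | ∃ x : X, u = x • v}) ?_ ?_ ?_ ?_ hu
            · rintro _ ⟨y, rfl⟩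
              rw [← mul_smul]
              exact subset_closure ⟨_, rfl⟩
            · rw [smul_one]
              exact one_mem _
            · intro a b _ _ ha hb
              rw [smul_mul']
              exact mul_mem ha hb
            · intro a _ ha
              rw [smul_inv']
              exact inv_mem ha
          · intro h0
            exact hv1 (closure_eq_bot_iff.1 h0 ⟨1, (one_smul X v).symm⟩)
        rw [eq_top_iff, ← h1, closure_le]
        rintro _ ⟨x, rfl⟩
        exact hW v hv x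
      nfix := ⟨v, hv, hfix⟩ }
  obtain ⟨-, h1⟩ := hA X V T M habs ⟨B, hB⟩
  have hodd : ∀ u ∈ odd X V, u = 1 := by
    intro u hu
    have h2 := irr (odd X V) (by
      intro x u hu
      rw [mem_odd] at hu ⊢
      intro y hy
      have h3 : Odd (orderOf (x⁻¹ * y * x)) := by
        have h4 : orderOf (x⁻¹ * y * x⁻¹⁻¹) = orderOf y := by
          have := MulAut.conj_apply x⁻¹ y
          rw [← this]
          exact MulEquiv.orderOf_eq (MulAut.conj x⁻¹) y
        rw [inv_inv] at h4
        rwa [h4]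
      have h5 := hu _ h3
      rw [mul_assoc, mul_smul, inv_smul_eq_iff, mul_smul] at h5
      exact h5)
    rcases h2 with h2 | h2
    · rwa [h2, mem_bot] at hu
    · exfalso
      -- all elements of odd order are trivial: `X` is a 2-group
      have h3 : IsPGroup 2 X := by
        rw [IsPGroup.iff_orderOf]
        intro x
        obtain ⟨j, l, hl, hx⟩ := Nat.exists_eq_two_pow_mul_odd (orderOf_pos x).ne'
        refine ⟨j, ?_⟩
        have h4 : x ^ 2 ^ j = 1 := by
          refine faith _ fun u => ?_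
          have h5 : u ∈ odd X V := by rw [h2]; exact mem_top _
          refine (mem_odd.1 h5) _ ?_
          rw [orderOf_pow, hx, Nat.gcd_eq_right (Dvd.intro _ rfl), Nat.mul_div_cancel_left _ (pow_pos two_pos j)]
          exact hl
        have h6 := orderOf_dvd_of_pow_eq_one h4
        rw [hx] at h6
        have h7 : l ∣ 1 := by
          have h8 : l ∣ 2 ^ j := (Dvd.intro_left _ rfl).trans h6
          have h9 : Nat.Coprime l (2 ^ j) := Nat.Coprime.pow_right _ (Nat.Coprime.symm (Nat.coprime_two_left.2 hl))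
          exact (Nat.Coprime.dvd_of_dvd_mul_left h9 (by rwa [mul_one]))
        rw [hx, Nat.dvd_one.1 h7, mul_one]
      have h4 := core ⊤ inferInstance (h3.to_subgroup _)
      have h5 : ∀ x : X, x = 1 := fun x => by
        have : x ∈ (⊤ : Subgroup X) := mem_top _
        rwa [h4, mem_bot] at this
      obtain ⟨x, hx⟩ := hfix
      exact hx (by rw [h5 x, one_smul])
  have L := lift_id comm sq faith hodd T.isPGroup' hBT hB
  rcases h1 with ⟨F, i1, i2, i3, k, -, ⟨n⟩⟩ | ⟨k, m, -, hm, ⟨s⟩⟩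
  · exact nat_case L n hK (hK2 _ (KK_normal n) (KK_sup n)) hv hw hv1 hw1
  · exact ⟨1, one_mem _, by rw [one_smul]; exact sym_case L s hm hv hw hv1 hw1⟩

theorem oo_normal : (oo X).Normal := by
  refine ⟨fun x hx g => ?_⟩
  refine closure_induction (p := fun x _ => g * x * g⁻¹ ∈ oo X) ?_ ?_ ?_ ?_ hx
  · intro x hx
    refine subset_closure ?_
    have h4 : orderOf (g * x * g⁻¹) = orderOf x := by
      rw [← MulAut.conj_apply g x]
      exact MulEquiv.orderOf_eq (MulAut.conj g) x
    change Odd (orderOf (g * x * g⁻¹))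
    rw [h4]
    exact hx
  · rw [mul_one, mul_inv_cancel]
    exact one_mem _
  · intro a b _ _ ha hb
    rw [← conj_mul]
    exact mul_mem ha hb
  · intro a _ ha
    rw [← conj_inv]
    exact inv_mem ha

theorem oo_le {T N : Subgroup X} (hT : IsPGroup 2 T) (hN : N.Normal) (h : T ⊔ N = ⊤) : oo X ≤ N := by
  rw [oo, closure_le]
  intro x hx
  obtain ⟨t, ht, n, hn, hx'⟩ : ∃ t ∈ T, ∃ n ∈ N, x = t * n := by
    have h1 : x ∈ T ⊔ N := by rw [h]; exact mem_top _
    rw [← SetLike.mem_coe, Subgroup.mul_normal, Set.mem_mul] at h1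
    obtain ⟨t, ht, n, hn, h2⟩ := h1
    exact ⟨t, ht, n, hn, h2.symm⟩
  obtain ⟨j, hj⟩ := hT ⟨t, ht⟩
  have hj' : t ^ 2 ^ j = 1 := congrArg Subtype.val hj
  have h1 : (QuotientGroup.mk' N x) ^ 2 ^ j = 1 := by
    rw [hx', map_mul, (QuotientGroup.eq_one_iff n).2 hn |> fun e => (show QuotientGroup.mk' N n = 1 from e), mul_one,
      ← map_pow, hj', map_one]
  have h2 : orderOf (QuotientGroup.mk' N x) ∣ 2 ^ j := orderOf_dvd_of_pow_eq_one h1
  have h3 : orderOf (QuotientGroup.mk' N x) ∣ orderOf x := orderOf_map_dvd _ _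
  have h4 : Nat.Coprime (orderOf x) (2 ^ j) := Nat.Coprime.pow_right _ (Nat.Coprime.symm (Nat.coprime_two_left.2 hx))
  have h5 := Nat.dvd_gcd h3 h2
  rw [h4] at h5
  have h6 : QuotientGroup.mk' N x = 1 := orderOf_eq_one_iff.1 (Nat.dvd_one.1 h5)
  exact (QuotientGroup.eq_one_iff x).1 h6

theorem AbsI.aoff {T B Y : Subgroup X} {lam : Subgroup V} (h : AbsI T B Y lam) : AOff V B where
  comm a ha b hb := by
    have ha' : a⁻¹ = a := inv_eq_of_mul_eq_one_left (h.el a ha)
    have hb' : b⁻¹ = b := inv_eq_of_mul_eq_one_left (h.el b hb)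
    have h2 : (a * b)⁻¹ = a * b := inv_eq_of_mul_eq_one_left (h.el _ (mul_mem ha hb))
    rw [mul_inv_rev, ha', hb'] at h2
    exact h2.symm
  sq := h.el
  ne := h.Bne
  le := h.exact.le

/-- **P5 of THEOREM END (helper410).** -/
theorem minP_of (hA : FFBr.AStmt.{u}) : MinP.{u, u} := by
  intro H _ _ M _ _ _ T B Y lam _ h ⟨N, hN, hmax⟩ v hv hv1 w hw
  by_cases hw1 : w = 1
  · rw [hw1]
    exact one_mem _
  have hTne : T ≠ ⊤ := fun h0 => h.Yne (top_le_iff.1 (h0 ▸ h.TY))
  obtain ⟨TS, hTS⟩ : ∃ TS : Sylow 2 H, (TS : Subgroup H) = T := ⟨h.two.toSylow h.syl, rfl⟩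
  subst hTS
  have hfix : ∀ v ∈ lam, ∀ t ∈ TS, t • v = v := fun v hv t ht => by
    by_cases h1 : v = 1
    · rw [h1, smul_one]
    · exact (h.stab v hv h1 t).2 (h.TY ht)
  obtain ⟨n, hn, hnv⟩ := minP hA (T := TS) (M := N) (B := B) h.sq h.faith
    (fun W hW => h.irr W fun x u hu => hW x u hu) (hmax _ le_rfl hTne) hN
    (fun K hK => (em (K = ⊤)).elim Or.inr fun h1 => Or.inl (hmax K hK h1)) h.BT h.aoff (K := oo H) oo_normal
    (fun N hN h1 => oo_le TS.isPGroup' hN h1) (hfix v hv) (hfix w hw) hv1 hw1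
  exact mem_sup_left (subset_closure ⟨n, hn, hnv.symm⟩)

theorem minP_all : MinP.{u, u} := minP_of FFBr.aStmt

end Cfsg.Agent.Omega.NO3b.EndX
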