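import Cfsg.Agent.Omega.ML.Ex.DefN

/-!
# The exact end of NotFF (v2): the statement `SimpP` (helper907, helper410)

`SimpP` : in the situation `InX H M K T A`, `A` an atom, `|C_M(T)| ≥ 4`: `C_M(T ∩ K)` is a simple `N_K(T ∩ K)`-module.
-/

set_option autoImplicit false

namespace Cfsg.Agent.Omega.NO3b.EndX

open Subgroup Cfsg Cfsg.Agent.ClassTwoFusion.Quad Cfsg.Agent.Omega.ML.Ex

universe u v

/-- `C_M(T ∩ K)` is a simple `N_K(T ∩ K)`-module -/
def SimpP : Prop :=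
  ∀ (H : Type u) [Group H] [Finite H] (M : Type v) [Group M] [Finite M] [MulDistribMulAction H M]
    (K T A : Subgroup H), InX H M K T A → Atm M A → IsKGroup H → 4 ≤ Nat.card (cv M (T : Set H)) →
    ∀ W : Subgroup M, (∀ w ∈ W, ∀ s ∈ T ⊓ K, s • w = w) →
      (∀ n ∈ K ⊓ normalizer ((T ⊓ K : Subgroup H) : Set H), ∀ w ∈ W, n • w ∈ W) → W ≠ ⊥ →
      ∀ m : M, (∀ s ∈ T ⊓ K, s • m = m) → m ∈ W

end Cfsg.Agent.Omega.NO3b.EndX
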