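import Cfsg.Agent.Omega.NO3b.EndX.RedB
import Cfsg.Agent.Omega.NO3b.EndX.SimpDef
import Cfsg.Agent.Omega.ML.Ex.Red3
import Cfsg.Agent.Omega.ML.Ex.RedAsm

/-!
# The exact end of NotFF (v2), P6b: `RedP` (helper907)

* `inX_of_inN` : `InN` with `C_N(K) = 1` is `InX`;
* `CB.simp` : the field `simp` of `CompDat` from `SimpP`;
* **`redP_of`** : `MLK → SimpP → RedP`.
-/

set_option autoImplicit false
set_option linter.style.haveILetI false

namespace Cfsg.Agent.Omega.NO3b.EndX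

open Subgroup Cfsg Cfsg.Agent.ZN Cfsg.Agent.ClassTwoFusion.Quad Cfsg.Agent.Omega.ML.MinFrame
open Cfsg.Agent.Omega.ML.Ex Cfsg.Agent.Omega.ML.Ex.Red Cfsg.Agent.Omega.ML.Ex.SecLow Cfsg.Agent.Omega.ML.CD
open Cfsg.Agent.Omega.ML.Final (MLK kgroup_of_surj)

universe u v

/-- `InN` with `C_N(K) = 1` is `InX` -/
theorem inX_of_inN {H : Type u} [Group H] {N : Type v} [Group N] [MulDistribMulAction H N] {K T A : Subgroup H}
    (h : InN H N K T A) (hck : ∀ w : N, (∀ k ∈ K, k • w = w) → w = 1) : InX H N K T A where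
  sq := h.sq
  faith := h.faith
  irr := fun W hW => by
    rcases h.irrK W hW with h1 | h1
    · exact Or.inr h1
    · left
      rw [eq_bot_iff]
      exact fun w hw => mem_bot.2 (hck w fun k hk => h1 k hk w hw)
  norm := h.norm
  simple := h.simple
  cen := h.cen
  gen := h.gen
  two := h.two
  syl := h.syl
  AT := h.AT
  el := h.el
  four := h.four
  exact := h.exact
  sub := fun C hC => h.le_index hC
  low := h.low
  nmax := h.nmax

variable {H : Type u} [Group H] {M : Type v} [Group M] [MulDistribMulAction H M] {T B Y : Subgroup H}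
  {lam : Subgroup M} {B₁ K E : Subgroup H} {z : M}

namespace CB

/-- the field `simp` of `CompDat`, from a section -/
theorem simp_of [Finite H] [Finite M] (h : CB T B Y lam B₁ K E z) (hs : SimpP.{u, v}) (ml : MLK.{u, v})
    (hK : IsKGroup H) {X₁ : Type u} [Group X₁] [MulDistribMulAction X₁ (cm M E)] {a : YY T E →* X₁}
    (s : Sc T B₁ K E z a) :
    ∀ W ≤ cm M E, (∀ w ∈ W, ∀ s ∈ T ⊓ E, s • w = w) →
      (∀ n ∈ E ⊓ normalizer ((T ⊓ E : Subgroup H) : Set H), ∀ w ∈ W, n • w ∈ W) → W ≠ ⊥ →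
      ∀ m ∈ cm M E, (∀ s ∈ T ⊓ E, s • m = m) → m ∈ W := by
  have hfin : Finite X₁ := Finite.of_surjective a s.surj
  have hK₁ : IsKGroup X₁ := kgroup_of_surj hK (YY T E) a s.surj
  have hN := s.inN0.inN ml hK₁
  have hq := s.quo
  have hact := s.act
  have hX : InX X₁ (cm M E) (im a E) (im a (T1 T E)) (im a B₁) := inX_of_inN hN fun w hw => by
    apply Subtype.ext
    refine h.fixE w.2 fun e he => ?_
    have h1 := congrArg Subtype.val (hw (a ⟨e, E_le_YY he⟩) (apply_mem_im (y := ⟨e, E_le_YY he⟩) he))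
    rwa [hact] at h1
  -- `T₁ ∩ K₁` is the image of `T ∩ E`
  have hTE : T ⊓ E ≤ T1 T E := fun x hx => ⟨hx.1, le_normalizer hx.2⟩
  have hTK : im a (T1 T E) ⊓ im a E = im a (T ⊓ E) := by
    apply le_antisymm
    · rintro _ ⟨h1, ⟨y, hy, rfl⟩⟩
      exact apply_mem_im (hq.mem_T_of hy h1)
    · exact le_inf (im_mono hTE) (im_mono inf_le_right)
  have hTEY : T ⊓ E ≤ YY T E := hTE.trans T1_le_YY
  -- `|C_N(T₁)| ≥ 4`
  have h4 : 4 ≤ Nat.card (cv (cm M E) (im a (T1 T E) : Set X₁)) := by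
    rw [s.cv_im T1_le_YY]
    refine (h.a.four.trans h.card_lam_le).trans (le_of_eq ?_)
    refine Nat.card_congr
      { toFun := fun x => ⟨⟨x, x.2.1⟩, x.2.2⟩
        invFun := fun x => ⟨x.1, x.1.2, x.2⟩
        left_inv := fun _ => rfl
        right_inv := fun _ => rfl }
  have hmain := hs X₁ (cm M E) (im a E) (im a (T1 T E)) (im a B₁) hX hN.atom hK₁ h4
  rw [hTK] at hmain
  intro W hW hW1 hW2 hW3 m hm hm1
  have h5 := hmain (W.subgroupOf (cm M E)) ?_ ?_ ?_ ⟨m, hm⟩ ?_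
  · exact h5
  · rintro w hw _ ⟨y, hy, rfl⟩
    apply Subtype.ext
    rw [hact]
    exact hW1 w hw y hy
  · rintro _ ⟨⟨y, hy, rfl⟩, h6⟩ w hw
    change (((a y) • w : cm M E) : M) ∈ W
    rw [hact]
    have hyE : (y : H) ∈ E := hy
    have h6' : a y ∈ normalizer ((im a (T ⊓ E) : Subgroup X₁) : Set X₁) := h6
    refine hW2 y ⟨hy, mem_normalizer_iff.2 fun t => ?_⟩ w hw
    have key : ∀ t : H, t ∈ E → (t ∈ T ⊓ E ↔ (y : H) * t * (y : H)⁻¹ ∈ T ⊓ E) := by
      intro t ht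
      have h7 := mem_normalizer_iff.1 h6' (a ⟨t, E_le_YY ht⟩)
      have h8 : ∀ r : YY T E, (r : H) ∈ E → (a r ∈ im a (T ⊓ E) ↔ (r : H) ∈ T ⊓ E) := fun r hr =>
        ⟨fun h9 => hq.mem_T_of hr (im_mono hTE h9), fun h9 => apply_mem_im h9⟩
      rw [← map_inv, ← map_mul, ← map_mul, h8 _ ht,
        h8 (y * ⟨t, E_le_YY ht⟩ * y⁻¹) (mul_mem (mul_mem hyE ht) (inv_mem hyE))] at h7
      exact h7
    constructor
    · intro ht
      exact (key t ht.2).1 ht
    · intro ht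
      have h9 : t ∈ E := by
        have := mul_mem (mul_mem (inv_mem hyE) (show (y : H) * t * (y : H)⁻¹ ∈ E from ht.2)) hyE
        have e1 : (y : H)⁻¹ * ((y : H) * t * (y : H)⁻¹) * (y : H) = t := by group
        rwa [e1] at this
      exact (key t h9).2 ht
  · intro h6
    apply hW3
    rw [eq_bot_iff]
    intro w hw
    have h7 : (⟨w, hW hw⟩ : cm M E) ∈ W.subgroupOf (cm M E) := hw
    rw [h6, mem_bot] at h7
    exact mem_bot.2 (congrArg Subtype.val h7)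
  · rintro _ ⟨y, hy, rfl⟩
    apply Subtype.ext
    rw [hact]
    exact hm1 y hy

/-- the field `simp` of `CompDat` -/
theorem simp [Finite H] [Finite M] (h : CB T B Y lam B₁ K E z) (hs : SimpP.{u, v}) (ml : MLK.{u, v})
    (hK : IsKGroup H) :
    ∀ W ≤ cm M E, (∀ w ∈ W, ∀ s ∈ T ⊓ E, s • w = w) →
      (∀ n ∈ E ⊓ normalizer ((T ⊓ E : Subgroup H) : Set H), ∀ w ∈ W, n • w ∈ W) → W ≠ ⊥ →
      ∀ m ∈ cm M E, (∀ s ∈ T ⊓ E, s • m = m) → m ∈ W := by
  letI := h.c.qact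
  exact h.simp_of hs ml hK h.c.sc

end CB

/-- **P6b of the exact end: `RedP`.** -/
theorem redP_of (ml : MLK.{u, v}) (hs : SimpP.{u, v}) : RedP.{u, v} := by
  intro H _ _ M _ _ _ T B Y lam hK hO h hn
  obtain ⟨v, hv, hv1⟩ := h.exists_ne
  obtain ⟨B₁, hB₁, hmn⟩ := h.mn hK ml hn hO hv hv1
  obtain ⟨K, E, hc⟩ := hmn.exists_cmpM ml hK
  have hcb : CB T B Y lam B₁ K E v := ⟨h, hc⟩
  exact (hcb.compDat (hcb.simp hs ml hK)).p2 h.sq h.two h.syl (fun v hv t ht => h.fixT ht hv) h.four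

end Cfsg.Agent.Omega.NO3b.EndX
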