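import Cfsg.Agent.Omega.NO3b.EndX.AbsP
import Cfsg.Agent.Omega.NO3b.EndX.MinP
import Cfsg.Agent.Omega.NO3b.EndX.RedP
import Cfsg.Agent.Omega.NO3b.EndX.SimpP

/-!
# The exact end of NotFF (v2), P9: `AbsP`

**`absP_all`** : `AbsP` from (ML) for K-groups and the K-list for exact subgroups (`RowsX`).

Author: helper768.
-/

set_option autoImplicit false

namespace Cfsg.Agent.Omega.NO3b.EndX

open Cfsg.Agent.Omega.ML.Final (MLK)
open Cfsg.Agent.Omega.ML.Ex (RowsX)

universe u

/-- **P9.** -/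
theorem absP_all (ml : MLK.{u, u}) (R : RowsX.{u, u}) : AbsP.{u, u} :=
  absP_of ml (absIP_of minP_all (redP_of ml (simpP R ml)))

end Cfsg.Agent.Omega.NO3b.EndX
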