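import Cfsg.Agent.Omega.ML.Final

/-!
# The exact end of NotFF (v2): THEOREM END (helper410, #22122), (4): the irreducible quotient

`ABS H M T Y B Lam` : `H` acts faithfully on the elementary abelian 2-group `M`, `T` is a Sylow 2-subgroup, `Lam ≤ C_M(T)`
with `C_H(v) = Y < H` for all `1 ≠ v ∈ Lam`, `M = ⟨Lam^H⟩`, `B ≤ T` is elementary abelian, low (`B ≤ O₂(R)` for
`T ≤ R < H`), exact on every `U_v = ⟨v^H⟩` and `|M : C_M(B)| < |B|²`.

**`ABS.out`** : for K-groups, `N = M / C_M(O²(H))` is irreducible and faithful, the image of every `U_v`,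
`|N : C_N(B)| = |B|`, and the stabiliser of the image of `v` is `Y`.
-/

set_option autoImplicit false
set_option linter.unusedSectionVars false

namespace Cfsg.Agent.Omega.NO3b.EndX

open Subgroup Cfsg Cfsg.Agent.ZN Cfsg.Agent.ClassTwoFusion.Quad
open Cfsg.Agent.Omega.ML.MinFrame (orb fxr mem_fxr smul_mem_orb_self mem_orb_self smul_mem_orb orb_le fxr_normal)
open Cfsg.Agent.Omega.ML.Final (MLK Dat MLK.act)
open Cfsg.Agent.MinSimple.VModule

universe u v

/-! ### Groups -/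

section grp

variable {H : Type u} [Group H]

/-- `H = O²(H) T` -/
theorem oddGen_sup_top [Finite H] {P T : Subgroup H} (hTP : T ≤ P) (hT : ¬ 2 ∣ T.relIndex P) :
    oddGen P ⊔ T = P := by
  have : Fact (Nat.Prime 2) := ⟨Nat.prime_two⟩
  apply le_antisymm (sup_le (oddGen_le P) hTP)
  have hN : ((oddGen P).subgroupOf P).Normal := normal_subgroupOf_of_le_normalizer (le_normalizer_oddGen P)
  have h1 : IsPGroup 2 (P ⧸ (oddGen P).subgroupOf P) := by
    intro q
    obtain ⟨x, rfl⟩ := QuotientGroup.mk_surjective q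
    obtain ⟨a, m, hm, ha⟩ := Nat.exists_eq_pow_mul_and_not_dvd (orderOf_pos (x : H)).ne' 2 (by norm_num)
    refine ⟨a, ?_⟩
    rw [← QuotientGroup.mk_pow, QuotientGroup.eq_one_iff, mem_subgroupOf]
    refine mem_oddGen (P.pow_mem x.2 _) ?_
    have hm0 : 0 < m := Nat.pos_of_ne_zero (by rintro rfl; simp at hm)
    have h2 : orderOf ((x : H) ^ 2 ^ a) = m := by
      rw [orderOf_pow_of_dvd (by positivity) (ha ▸ Dvd.intro _ rfl), ha, Nat.mul_div_cancel_left _ (by positivity)]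
    rw [coe_pow, h2]
    exact Nat.not_even_iff_odd.1 fun h => hm h.two_dvd
  obtain ⟨k, hk⟩ := IsPGroup.iff_card.1 h1
  have h2 : (oddGen P ⊔ T).relIndex P ∣ 2 ^ k := by
    have h3 : (oddGen P ⊔ T).relIndex P ∣ (oddGen P).relIndex P := relIndex_dvd_of_le_left _ le_sup_left
    have h4 : (oddGen P).relIndex P = 2 ^ k := by
      rw [← hk, relIndex, index_eq_card]
    rwa [h4] at h3
  obtain ⟨j, -, hj⟩ := (Nat.dvd_prime_pow Nat.prime_two).1 h2
  have h5 : (oddGen P ⊔ T).relIndex P ∣ T.relIndex P := relIndex_dvd_of_le_left _ le_sup_right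
  rw [hj] at h5
  rcases Nat.eq_zero_or_pos j with rfl | hj0
  · rw [pow_zero] at hj
    exact relIndex_eq_one.1 hj
  · exact absurd ((dvd_pow_self 2 hj0.ne').trans h5) hT

theorem relIndex_ne' [Finite H] (A B : Subgroup H) : A.relIndex B ≠ 0 := by
  rw [relIndex]
  exact index_ne_zero_of_finite

/-- equal relative indices -/
theorem inf_le_of_relIndex [Finite H] {A B U : Subgroup H} (h : A ≤ B) (he : A.relIndex U = B.relIndex U) :
    B ⊓ U ≤ A := by
  have h1 := relIndex_mul_relIndex (A ⊓ U) (B ⊓ U) U (inf_le_inf_right _ h) inf_le_right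
  rw [inf_relIndex_right, inf_relIndex_right, he] at h1
  have h2 : (A ⊓ U).relIndex (B ⊓ U) = 1 := by
    have h3 : (A ⊓ U).relIndex (B ⊓ U) * B.relIndex U = 1 * B.relIndex U := by rw [h1, one_mul]
    exact Nat.eq_of_mul_eq_mul_right (Nat.pos_of_ne_zero (relIndex_ne' _ _)) h3
  exact (relIndex_eq_one.1 h2).trans inf_le_left

end grp

/-- the action on a quotient -/
@[reducible] def quoAct {X : Type u} {U : Type v} [Group X] [Group U] [MulDistribMulAction X U] (D : Subgroup U)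
    [D.Normal] (hD : ∀ x : X, ∀ d ∈ D, x • d ∈ D) : MulDistribMulAction X (U ⧸ D) where
  smul x := QuotientGroup.map D D (MulDistribMulAction.toMonoidHom U x) fun d hd => hD x d hd
  one_smul q := by
    obtain ⟨u, rfl⟩ := QuotientGroup.mk_surjective q
    exact congrArg (QuotientGroup.mk (s := D)) (one_smul X u)
  mul_smul x y q := by
    obtain ⟨u, rfl⟩ := QuotientGroup.mk_surjective q
    exact congrArg (QuotientGroup.mk (s := D)) (mul_smul x y u)
  smul_mul x p q := map_mul (QuotientGroup.map D D (MulDistribMulAction.toMonoidHom U x) fun d hd => hD x d hd) p q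
  smul_one x := map_one (QuotientGroup.map D D (MulDistribMulAction.toMonoidHom U x) fun d hd => hD x d hd)

/-- The abstract situation of THEOREM END. -/
structure ABS (H : Type u) [Group H] (M : Type v) [Group M] [MulDistribMulAction H M] (T Y B : Subgroup H)
    (Lam : Subgroup M) : Prop where
  sq : ∀ m : M, m * m = 1
  faith : ∀ h : H, (∀ m : M, h • m = m) → h = 1
  two : IsPGroup 2 T
  syl : ¬ 2 ∣ T.index
  fixT : ∀ t ∈ T, ∀ v ∈ Lam, t • v = v
  four : 4 ≤ Nat.card Lam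
  stab : ∀ v ∈ Lam, v ≠ 1 → ∀ h : H, h • v = v ↔ h ∈ Y
  Yne : Y ≠ ⊤
  gen : ∀ U : Subgroup M, Lam ≤ U → (∀ h : H, ∀ u ∈ U, h • u ∈ U) → U = ⊤
  BT : B ≤ T
  el : ∀ b ∈ B, b * b = 1
  low : ∀ R : Subgroup H, T ≤ R → R ≠ ⊤ → B ≤ o2 R
  exact : ∀ v ∈ Lam, v ≠ 1 → (cv M (B : Set H)).relIndex (orb (⊤ : Subgroup H) v) = Nat.card B
  small : (cv M (B : Set H)).index < Nat.card B * Nat.card B

namespace ABS

variable {H : Type u} [Group H] {M : Type v} [Group M] [MulDistribMulAction H M] {T Y B : Subgroup H}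
  {Lam : Subgroup M}

theorem inv_eq (h : ABS H M T Y B Lam) (x : M) : x⁻¹ = x := inv_eq_of_mul_eq_one_right (h.sq x)

theorem comm (h : ABS H M T Y B Lam) (x y : M) : x * y = y * x := by
  calc x * y = (x * y)⁻¹ := (h.inv_eq _).symm
    _ = y⁻¹ * x⁻¹ := mul_inv_rev _ _
    _ = y * x := by rw [h.inv_eq, h.inv_eq]

theorem norm (h : ABS H M T Y B Lam) (W : Subgroup M) : W.Normal := ⟨fun d hd g => by
  rw [h.comm g d, mul_inv_cancel_right]; exact hd⟩

variable [Finite H]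

/-- normal 2-subgroups are trivial -/
theorem norm_two (h : ABS H M T Y B Lam) {F : Subgroup H} (hF : F.Normal) (h2 : IsPGroup 2 F) : F = ⊥ := by
  have hFT : F ≤ T := by
    have h1 : F ≤ o2 (⊤ : Subgroup H) := le_o2 le_top h2 (by rw [normalizer_eq_top])
    exact h1.trans (o2_le_of_sylow h.two (by rw [relIndex_top_right]; exact h.syl))
  have h1 : cv M (F : Set H) = ⊤ := by
    refine h.gen _ (fun v hv f hf => h.fixT f (hFT hf) v hv) fun g u hu f hf => ?_
    have h3 : g⁻¹ * f * g ∈ F := by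
      have := hF.conj_mem f hf g⁻¹
      rwa [inv_inv] at this
    have h4 := hu _ h3
    rw [mul_smul, mul_smul, inv_smul_eq_iff] at h4
    exact h4
  rw [eq_bot_iff]
  intro f hf
  rw [mem_bot]
  refine h.faith f fun m => ?_
  have h3 : m ∈ cv M (F : Set H) := by rw [h1]; exact mem_top m
  exact h3 f hf

/-- (i) -/
theorem inf_B (h : ABS H M T Y B Lam) {F : Subgroup H} (hF : F.Normal) (hFT : F ⊔ T ≠ ⊤) : F ⊓ B = ⊥ := by
  have h1 := h.low (F ⊔ T) le_sup_right hFT
  have h2 : F ⊓ o2 (F ⊔ T) ≤ o2 F := by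
    refine le_o2 inf_le_left ((o2_isPGroup (F ⊔ T)).to_le inf_le_right) ?_
    refine fun x hx => ?_
    rw [mem_normalizer_iff]
    have h3 := mem_normalizer_iff.1 (le_normalizer_o2 (F ⊔ T) ((le_sup_left : F ≤ F ⊔ T) hx))
    intro y
    rw [mem_inf, mem_inf, ← h3 y]
    refine and_congr_left fun _ => ⟨fun hy => hF.conj_mem y hy x, fun hy => ?_⟩
    have := hF.conj_mem _ hy x⁻¹
    simpa [mul_assoc] using this
  have h3 : o2 F = ⊥ := by
    have := Lib.Cores.pCore_characteristic (G := F) 2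
    have h4 : ((pCore 2 F).map F.subtype).Normal := ConjAct.normal_of_characteristic_of_normal
    exact h.norm_two h4 (o2_isPGroup F)
  rw [eq_bot_iff, ← h3]
  exact (inf_le_inf_left F h1).trans h2

/-- `B ≠ 1` -/
theorem B_ne [Finite M] (h : ABS H M T Y B Lam) : B ≠ ⊥ := by
  intro h1
  have h2 := h.small
  rw [h1, card_bot] at h2
  have h3 : (cv M ((⊥ : Subgroup H) : Set H)).index ≠ 0 := index_ne_zero_of_finite
  omega

/-- a normal subgroup over `B` contains `O²(H)` -/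
theorem K_le [Finite M] (h : ABS H M T Y B Lam) {F : Subgroup H} (hF : F.Normal) (hB : B ≤ F) :
    oddGen (⊤ : Subgroup H) ≤ F := by
  by_cases hFT : F ⊔ T = ⊤
  · exact oddGen_le_of_sup (by rw [normalizer_eq_top]) (by rw [hFT]) le_top le_top h.two
  · exfalso
    have h1 := h.inf_B hF hFT
    rw [inf_eq_right.2 hB] at h1
    exact h.B_ne h1

theorem K_sup (h : ABS H M T Y B Lam) : oddGen (⊤ : Subgroup H) ⊔ T = ⊤ :=
  oddGen_sup_top le_top (by rw [relIndex_top_right]; exact h.syl)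

theorem K_normal (_ : ABS H M T Y B Lam) : (oddGen (⊤ : Subgroup H)).Normal := by
  rw [← normalizer_eq_top_iff, eq_top_iff]
  exact le_normalizer_oddGen ⊤

theorem TY (h : ABS H M T Y B Lam) {v : M} (hv : v ∈ Lam) (hv1 : v ≠ 1) : T ≤ Y := fun t ht =>
  (h.stab v hv hv1 t).1 (h.fixT t ht v hv)

/-- `O²(H)` moves `v` -/
theorem K_moves (h : ABS H M T Y B Lam) {v : M} (hv : v ∈ Lam) (hv1 : v ≠ 1) :
    ¬ ∀ k ∈ oddGen (⊤ : Subgroup H), k • v = v := by
  intro hcon
  apply h.Yne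
  rw [eq_top_iff, ← h.K_sup]
  exact sup_le (fun k hk => (h.stab v hv hv1 k).1 (hcon k hk)) (h.TY hv hv1)

theorem cvK_inv (h : ABS H M T Y B Lam) (g : H) {m : M} (hm : m ∈ cv M (oddGen (⊤ : Subgroup H) : Set H)) :
    g • m ∈ cv M (oddGen (⊤ : Subgroup H) : Set H) := by
  intro k hk
  have h3 : g⁻¹ * k * g ∈ oddGen (⊤ : Subgroup H) := by
    have := h.K_normal.conj_mem k hk g⁻¹
    rwa [inv_inv] at this
  have h4 := hm _ h3
  rw [mul_smul, mul_smul, inv_smul_eq_iff] at h4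
  exact h4

theorem orb_inv (v : M) (g : H) {m : M} (hm : m ∈ orb (⊤ : Subgroup H) v) : g • m ∈ orb (⊤ : Subgroup H) v :=
  smul_mem_orb (mem_top g) hm

/-- `O²(H)` is nontrivial on `U_v / W` -/
theorem K_nt [Finite M] (h : ABS H M T Y B Lam) {v : M} (hv : v ∈ Lam) {W : Subgroup M}
    (hW : ∀ g : H, ∀ w ∈ W, g • w ∈ W)
    (hCW : cv M (oddGen (⊤ : Subgroup H) : Set H) ⊓ orb (⊤ : Subgroup H) v ≤ W) (hvW : v ∉ W) :
    ∃ k ∈ oddGen (⊤ : Subgroup H), (k • v) * v⁻¹ ∉ W := by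
  by_contra hcon
  push Not at hcon
  apply hvW
  -- all translates of `v` are in `v W`
  have hS : ∀ g : H, (g • v) * v⁻¹ ∈ W := by
    let S : Subgroup H :=
      { carrier := {g | (g • v) * v⁻¹ ∈ W}
        one_mem' := by
          show ((1 : H) • v) * v⁻¹ ∈ W
          rw [one_smul, mul_inv_cancel]; exact W.one_mem
        mul_mem' := by
          intro a b ha hb
          have h1 := W.mul_mem (hW a _ hb) ha
          have h2 : a • ((b • v) * v⁻¹) * ((a • v) * v⁻¹) = ((a * b) • v) * v⁻¹ := by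
            rw [smul_mul', smul_inv', mul_smul]; group
          rwa [h2] at h1
        inv_mem' := by
          intro a ha
          have h1 := W.inv_mem (hW a⁻¹ _ ha)
          have h2 : (a⁻¹ • ((a • v) * v⁻¹))⁻¹ = (a⁻¹ • v) * v⁻¹ := by
            rw [smul_mul', inv_smul_smul, smul_inv', mul_inv_rev, inv_inv]
          rwa [h2] at h1 }
    have h1 : S = ⊤ := by
      rw [eq_top_iff, ← h.K_sup]
      refine sup_le (fun k hk => hcon k hk) fun t ht => ?_
      show (t • v) * v⁻¹ ∈ W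
      rw [h.fixT t ht v hv, mul_inv_cancel]
      exact W.one_mem
    intro g
    have h2 : g ∈ S := by rw [h1]; exact mem_top g
    exact h2
  let _ : CommGroup M := { ‹Group M› with mul_comm := h.comm }
  have hfin : (MulAction.orbit H v).Finite := Set.toFinite _
  set s := hfin.toFinset with hs
  -- its number is odd
  have hodd : Odd s.card := by
    have h1 : (MulAction.stabilizer H v).index = (MulAction.orbit H v).ncard := MulAction.index_stabilizer H v
    have h2 : s.card = (MulAction.stabilizer H v).index := by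
      rw [h1, Set.ncard_eq_toFinset_card _ hfin]
    rw [h2]
    refine Nat.not_even_iff_odd.1 fun h3 => h.syl (h3.two_dvd.trans (index_dvd_of_le fun t ht => ?_))
    exact MulAction.mem_stabilizer_iff.2 (h.fixT t ht v hv)
  have hmem : ∀ x ∈ s, ∃ g : H, g • v = x := fun x hx => by
    rw [hs, Set.Finite.mem_toFinset] at hx
    exact hx
  set p : M := ∏ x ∈ s, x with hp
  -- `p` is fixed by `H`
  have hfix : ∀ g : H, g • p = p := by
    intro g
    rw [hp, Finset.smul_prod']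
    refine Finset.prod_bij (fun x _ => g • x) ?_ ?_ ?_ ?_
    · intro x hx
      obtain ⟨k, rfl⟩ := hmem x hx
      rw [hs, Set.Finite.mem_toFinset, ← mul_smul]
      exact MulAction.mem_orbit v _
    · intro x _ y _ hxy
      exact smul_left_cancel g hxy
    · intro x hx
      obtain ⟨k, rfl⟩ := hmem x hx
      refine ⟨g⁻¹ • k • v, ?_, smul_inv_smul _ _⟩
      rw [hs, Set.Finite.mem_toFinset, ← mul_smul]
      exact MulAction.mem_orbit v _
    · intro x _
      rfl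
  have hpU : p ∈ orb (⊤ : Subgroup H) v := by
    refine Subgroup.prod_mem _ fun x hx => ?_
    obtain ⟨k, rfl⟩ := hmem x hx
    exact smul_mem_orb_self (mem_top k)
  have hpW : p ∈ W := hCW ⟨fun k _ => hfix k, hpU⟩
  have h1 : ∏ x ∈ s, (x * v⁻¹) ∈ W := by
    refine Subgroup.prod_mem _ fun x hx => ?_
    obtain ⟨k, rfl⟩ := hmem x hx
    exact hS k
  rw [Finset.prod_mul_distrib, Finset.prod_const, ← hp] at h1
  obtain ⟨n, hn⟩ := hodd
  have h2 : v⁻¹ ^ s.card = v := by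
    rw [h.inv_eq, hn, pow_succ, pow_mul, pow_two, h.sq, one_pow, one_mul]
  rw [h2] at h1
  exact (W.mul_mem_cancel_left hpW).1 h1

/-- `{m : [m, B] ≤ W}` -/
def bw (h : ABS H M T Y B Lam) (W : Subgroup M) : Subgroup M where
  carrier := {m | ∀ b ∈ B, (b • m) * m⁻¹ ∈ W}
  one_mem' := fun b _ => by rw [smul_one, one_mul, inv_one]; exact W.one_mem
  mul_mem' := by
    intro m n hm hn b hb
    have h1 := W.mul_mem (hm b hb) (hn b hb)
    have h2 : (b • m) * m⁻¹ * ((b • n) * n⁻¹) = (b • (m * n)) * (m * n)⁻¹ := by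
      rw [smul_mul', mul_inv_rev, h.comm n⁻¹ m⁻¹, mul_assoc, ← mul_assoc m⁻¹, h.comm m⁻¹ (b • n)]
      group
    rwa [h2] at h1
  inv_mem' := by
    intro m hm b hb
    have h1 := W.inv_mem (hm b hb)
    have h2 : ((b • m) * m⁻¹)⁻¹ = (b • m⁻¹) * m⁻¹⁻¹ := by
      rw [mul_inv_rev, inv_inv, smul_inv', h.comm]
    rwa [h2] at h1

theorem mem_bw (h : ABS H M T Y B Lam) {W : Subgroup M} {m : M} :
    m ∈ h.bw W ↔ ∀ b ∈ B, (b • m) * m⁻¹ ∈ W := Iff.rfl

/-- **(ML) on `U_v / W`** -/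
theorem ml [Finite M] (h : ABS H M T Y B Lam) (hML : MLK.{u, v}) (hK : IsKGroup H) {v : M} (hv : v ∈ Lam)
    (_ : v ≠ 1) {W : Subgroup M} (hW : ∀ g : H, ∀ w ∈ W, g • w ∈ W)
    (hCW : cv M (oddGen (⊤ : Subgroup H) : Set H) ⊓ orb (⊤ : Subgroup H) v ≤ W) (hvW : v ∉ W) :
    Nat.card B ≤ (h.bw W).relIndex (orb (⊤ : Subgroup H) v) := by
  obtain ⟨k, hk, hkW⟩ := h.K_nt hv hW hCW hvW
  have := h.norm W
  let _ := quoAct (X := H) W hW
  let mk : M →* M ⧸ W := QuotientGroup.mk' W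
  have hsm : ∀ (g : H) (m : M), g • mk m = mk (g • m) := fun _ _ => rfl
  have heq : ∀ a b : M, mk a = mk b ↔ a * b⁻¹ ∈ W := by
    intro a b
    rw [← mul_inv_eq_one, ← map_inv, ← map_mul, ← MonoidHom.mem_ker, QuotientGroup.ker_mk']
  set z : M ⧸ W := mk v with hz
  have hkz : k • z ≠ z := fun e => hkW ((heq _ _).1 e)
  have hTz : ∀ t ∈ T, t • z = z := fun t ht => by rw [hz, hsm, h.fixT t ht v hv]
  have hst : B ≤ o2 (MulAction.stabilizer H z) := by
    refine h.low _ (fun t ht => MulAction.mem_stabilizer_iff.2 (hTz t ht)) fun e => hkz ?_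
    have : k ∈ MulAction.stabilizer H z := by rw [e]; exact mem_top k
    exact MulAction.mem_stabilizer_iff.1 this
  have hD : Dat T (o2 (MulAction.stabilizer H z)) B z := by
    refine ⟨?_, h.two, h.syl, hTz, ?_, ?_, ?_, ?_, ?_⟩
    · intro x
      obtain ⟨m, rfl⟩ := QuotientGroup.mk'_surjective W x
      rw [← map_mul, h.sq, map_one]
    · intro q hq
      obtain ⟨n, hn⟩ := o2_isPGroup (MulAction.stabilizer H z) ⟨q, hq⟩
      refine ⟨n, fun x => ?_⟩
      have h1 : q ^ 2 ^ n = 1 := congrArg Subtype.val hn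
      rw [h1, one_smul]
    · intro q hq
      exact MulAction.mem_stabilizer_iff.1 (o2_le _ hq)
    · intro g hg q hq
      exact ⟨_, (mem_normalizer_iff.1 (le_normalizer_o2 _ (MulAction.mem_stabilizer_iff.2 hg)) q).1 hq, fun _ => rfl⟩
    · intro a ha
      exact ⟨a, hst ha, fun _ => rfl⟩
    · intro a ha x
      rw [← mul_smul, h.el a ha, one_smul]
  have key := hML.act hK hD
  -- the left side
  have hF : fxr H (orb (⊤ : Subgroup H) z) ⊓ B = ⊥ := by
    refine h.inf_B (fxr_normal fun g u hu => smul_mem_orb (mem_top g) hu) fun e => hkz ?_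
    have h1 : oddGen (⊤ : Subgroup H) ≤ fxr H (orb (⊤ : Subgroup H) z) := by
      have hn : (fxr H (orb (⊤ : Subgroup H) z)).Normal := fxr_normal fun g u hu => smul_mem_orb (mem_top g) hu
      exact oddGen_le_of_sup (by rw [normalizer_eq_top]) (by rw [e]) le_top le_top h.two
    exact h1 hk z (mem_orb_self _ _)
  have e1 : (fxr H (orb (⊤ : Subgroup H) z)).relIndex B = Nat.card B := by
    rw [← inf_relIndex_right, hF, relIndex_bot_left]
  have e2 : orb (⊤ : Subgroup H) z = (orb (⊤ : Subgroup H) v).map mk := by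
    apply le_antisymm
    · exact orb_le fun g _ => ⟨g • v, smul_mem_orb_self (mem_top g), rfl⟩
    · rw [map_le_iff_le_comap]
      exact orb_le fun g _ => smul_mem_orb_self (z := z) (mem_top g)
  have e3 : (cv (M ⧸ W) (B : Set H)).comap mk = h.bw W := by
    ext m
    constructor
    · intro hm b hb
      exact (heq _ _).1 (hm b hb)
    · intro hm b hb
      exact (heq _ _).2 (hm b hb)
  rw [e1, e2, ← relIndex_comap, e3] at key
  exact key

/-- **(ii)** `B` centralises `W` -/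
theorem W_le [Finite M] (h : ABS H M T Y B Lam) (hML : MLK.{u, v}) (hK : IsKGroup H) {v : M} (hv : v ∈ Lam)
    (hv1 : v ≠ 1) {W : Subgroup M} (hW : ∀ g : H, ∀ w ∈ W, g • w ∈ W)
    (hCW : cv M (oddGen (⊤ : Subgroup H) : Set H) ⊓ orb (⊤ : Subgroup H) v ≤ W)
    (hWU : W ≤ orb (⊤ : Subgroup H) v) (hvW : v ∉ W) :
    W ≤ cv M (oddGen (⊤ : Subgroup H) : Set H) := by
  have h1 := h.ml hML hK hv hv1 hW hCW hvW
  have h2 : cv M (B : Set H) ⊔ W ≤ h.bw W := by
    refine sup_le (fun m hm b hb => ?_) fun m hm b hb => W.mul_mem (hW b m hm) (W.inv_mem hm)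
    rw [hm b hb, mul_inv_cancel]
    exact W.one_mem
  have h3 : (h.bw W).relIndex (orb (⊤ : Subgroup H) v) ≤ (cv M (B : Set H) ⊔ W).relIndex (orb (⊤ : Subgroup H) v) :=
    Nat.le_of_dvd (Nat.pos_of_ne_zero (relIndex_ne' _ _)) (relIndex_dvd_of_le_left _ h2)
  have h4 : (cv M (B : Set H) ⊔ W).relIndex (orb (⊤ : Subgroup H) v) ≤
      (cv M (B : Set H)).relIndex (orb (⊤ : Subgroup H) v) :=
    Nat.le_of_dvd (Nat.pos_of_ne_zero (relIndex_ne' _ _)) (relIndex_dvd_of_le_left _ le_sup_left)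
  have h5 := h.exact v hv hv1
  have h6 : (cv M (B : Set H)).relIndex (orb (⊤ : Subgroup H) v) =
      (cv M (B : Set H) ⊔ W).relIndex (orb (⊤ : Subgroup H) v) := by omega
  have h7 := inf_le_of_relIndex le_sup_left h6
  have h8 : W ≤ cv M (B : Set H) := fun w hw => h7 ⟨(le_sup_right : W ≤ _) hw, hWU hw⟩
  have h9 : B ≤ fxr H W := fun b hb w hw => h8 hw b hb
  have h10 := h.K_le (fxr_normal hW) h9
  exact fun w hw k hk => h10 hk w hw

/-- `C_M(O²(H))` -/
abbrev CK (_ : ABS H M T Y B Lam) : Subgroup M := cv M (oddGen (⊤ : Subgroup H) : Set H)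

theorem CK_inv (h : ABS H M T Y B Lam) (g : H) (m : M) (hm : m ∈ h.CK) : g • m ∈ h.CK := h.cvK_inv g hm

theorem v_nmem (h : ABS H M T Y B Lam) {v : M} (hv : v ∈ Lam) (hv1 : v ≠ 1) : v ∉ h.CK := fun h1 =>
  h.K_moves hv hv1 fun k hk => h1 k hk

/-- `U_v / C(O²(H))` is irreducible -/
theorem cases_v [Finite M] (h : ABS H M T Y B Lam) (hML : MLK.{u, v}) (hK : IsKGroup H) {v : M} (hv : v ∈ Lam)
    (hv1 : v ≠ 1) {W : Subgroup M} (hW : ∀ g : H, ∀ w ∈ W, g • w ∈ W)
    (hCW : h.CK ⊓ orb (⊤ : Subgroup H) v ≤ W) :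
    W ⊓ orb (⊤ : Subgroup H) v ≤ h.CK ∨ orb (⊤ : Subgroup H) v ≤ W := by
  by_cases hvW : v ∈ W
  · exact Or.inr (orb_le fun g _ => hW g v hvW)
  · left
    exact h.W_le hML hK hv hv1 (W := W ⊓ orb (⊤ : Subgroup H) v)
      (fun g w hw => ⟨hW g w hw.1, orb_inv v g hw.2⟩) (le_inf hCW inf_le_right) inf_le_right (fun h1 => hvW h1.1)

/-- (iii) the images of `U_v` and `U_v'` are equal -/
theorem le_sup_orb [Finite M] (h : ABS H M T Y B Lam) (hML : MLK.{u, v}) (hK : IsKGroup H) {v v' : M} (hv : v ∈ Lam)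
    (hv1 : v ≠ 1) (hv' : v' ∈ Lam) (hv1' : v' ≠ 1) :
    orb (⊤ : Subgroup H) v' ≤ h.CK ⊔ orb (⊤ : Subgroup H) v := by
  have hinv : ∀ g : H, ∀ w ∈ h.CK ⊔ orb (⊤ : Subgroup H) v, g • w ∈ h.CK ⊔ orb (⊤ : Subgroup H) v := by
    intro g w hw
    have h1 : h.CK ⊔ orb (⊤ : Subgroup H) v ≤
        (h.CK ⊔ orb (⊤ : Subgroup H) v).comap (MulDistribMulAction.toMonoidHom M g) := by
      refine sup_le (fun m hm => ?_) fun m hm => ?_
      · exact (le_sup_left : h.CK ≤ _) (h.CK_inv g m hm)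
      · exact (le_sup_right : orb (⊤ : Subgroup H) v ≤ _) (orb_inv v g hm)
    exact h1 hw
  rcases h.cases_v hML hK hv' hv1' hinv (inf_le_left.trans le_sup_left) with h1 | h1
  · exfalso
    have h2 := h.ml hML hK hv hv1 (W := h.CK ⊓ orb (⊤ : Subgroup H) v)
      (fun g w hw => ⟨h.CK_inv g w hw.1, orb_inv v g hw.2⟩) le_rfl (fun h3 => h.v_nmem hv hv1 h3.1)
    have n1 := h.norm (cv M (B : Set H))
    have n2 := h.norm (cv M (B : Set H) ⊔ orb (⊤ : Subgroup H) v')
    have h3 : (cv M (B : Set H)).relIndex (cv M (B : Set H) ⊔ orb (⊤ : Subgroup H) v') = Nat.card B := by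
      rw [sup_comm, relIndex_sup_right, h.exact v' hv' hv1']
    have h4 : (h.bw (h.CK ⊓ orb (⊤ : Subgroup H) v)).relIndex (orb (⊤ : Subgroup H) v) ≤
        (cv M (B : Set H) ⊔ orb (⊤ : Subgroup H) v').relIndex (orb (⊤ : Subgroup H) v) := by
      rw [← inf_relIndex_right (cv M (B : Set H) ⊔ orb (⊤ : Subgroup H) v')]
      refine Nat.le_of_dvd (Nat.pos_of_ne_zero (relIndex_ne' _ _)) (relIndex_dvd_of_le_left _ ?_)
      rintro x ⟨hx, hxU⟩ b hb
      have n3 := h.norm (orb (⊤ : Subgroup H) v')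
      obtain ⟨c, hc, y, hy, rfl⟩ := mem_sup_of_normal_right.1 hx
      have e1 : (b • (c * y)) * (c * y)⁻¹ = (b • y) * y⁻¹ := by
        rw [smul_mul', hc b hb, mul_inv_rev, mul_assoc, ← mul_assoc (b • y), h.comm ((b • y) * y⁻¹) c⁻¹,
          mul_inv_cancel_left]
      have h5 : (b • (c * y)) * (c * y)⁻¹ ∈ orb (⊤ : Subgroup H) v :=
        (orb (⊤ : Subgroup H) v).mul_mem (orb_inv v b hxU) ((orb (⊤ : Subgroup H) v).inv_mem hxU)
      refine ⟨?_, h5⟩
      refine h1 ⟨(le_sup_right : orb (⊤ : Subgroup H) v ≤ _) h5, ?_⟩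
      rw [e1]
      exact (orb (⊤ : Subgroup H) v').mul_mem (orb_inv v' b hy) ((orb (⊤ : Subgroup H) v').inv_mem hy)
    have h5 : (cv M (B : Set H) ⊔ orb (⊤ : Subgroup H) v').relIndex (orb (⊤ : Subgroup H) v) ≤
        (cv M (B : Set H) ⊔ orb (⊤ : Subgroup H) v').index :=
      Nat.le_of_dvd (Nat.pos_of_ne_zero index_ne_zero_of_finite) (relIndex_dvd_index_of_normal _ _)
    have h6 := relIndex_mul_index (le_sup_left : cv M (B : Set H) ≤ cv M (B : Set H) ⊔ orb (⊤ : Subgroup H) v')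
    rw [h3] at h6
    have h7 := h.small
    rw [← h6] at h7
    have h8 := Nat.mul_le_mul_left (Nat.card B) (h2.trans (h4.trans h5))
    omega
  · exact h1

theorem exists_v (h : ABS H M T Y B Lam) : ∃ v ∈ Lam, v ≠ 1 := by
  by_contra hcon
  push Not at hcon
  have h1 : Lam = ⊥ := (eq_bot_iff_forall _).2 hcon
  have h2 := h.four
  rw [h1, card_bot] at h2
  omega

theorem sup_inv (h : ABS H M T Y B Lam) (v : M) (g : H) {w : M} (hw : w ∈ h.CK ⊔ orb (⊤ : Subgroup H) v) :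
    g • w ∈ h.CK ⊔ orb (⊤ : Subgroup H) v := by
  have h1 : h.CK ⊔ orb (⊤ : Subgroup H) v ≤
      (h.CK ⊔ orb (⊤ : Subgroup H) v).comap (MulDistribMulAction.toMonoidHom M g) := by
    refine sup_le (fun m hm => ?_) fun m hm => ?_
    · exact (le_sup_left : h.CK ≤ _) (h.CK_inv g m hm)
    · exact (le_sup_right : orb (⊤ : Subgroup H) v ≤ _) (orb_inv v g hm)
  exact h1 hw

/-- `M = C_M(O²(H)) U_v` -/
theorem sup_top [Finite M] (h : ABS H M T Y B Lam) (hML : MLK.{u, v}) (hK : IsKGroup H) {v : M} (hv : v ∈ Lam)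
    (hv1 : v ≠ 1) : h.CK ⊔ orb (⊤ : Subgroup H) v = ⊤ := by
  refine h.gen _ (fun v' hv' => ?_) fun g u hu => h.sup_inv v g hu
  by_cases hv1' : v' = 1
  · rw [hv1']; exact one_mem _
  · exact h.le_sup_orb hML hK hv hv1 hv' hv1' (mem_orb_self _ _)

/-- **`M / C_M(O²(H))` is irreducible** -/
theorem irr [Finite M] (h : ABS H M T Y B Lam) (hML : MLK.{u, v}) (hK : IsKGroup H) {W : Subgroup M}
    (hW : ∀ g : H, ∀ w ∈ W, g • w ∈ W) (hCW : h.CK ≤ W) : W = h.CK ∨ W = ⊤ := by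
  obtain ⟨v, hv, hv1⟩ := h.exists_v
  have htop := h.sup_top hML hK hv hv1
  rcases h.cases_v hML hK hv hv1 hW (inf_le_left.trans hCW) with h1 | h1
  · left
    refine le_antisymm (fun w hw => ?_) hCW
    have n1 := h.norm (orb (⊤ : Subgroup H) v)
    have h2 : w ∈ h.CK ⊔ orb (⊤ : Subgroup H) v := by rw [htop]; exact mem_top w
    obtain ⟨d, hd, x, hx, rfl⟩ := mem_sup_of_normal_right.1 h2
    exact mul_mem hd (h1 ⟨(W.mul_mem_cancel_left (hCW hd)).1 hw, hx⟩)
  · right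
    rw [eq_top_iff, ← htop]
    exact sup_le hCW h1

/-- `{g : [M, g] ≤ C_M(O²(H))}` -/
def ker (h : ABS H M T Y B Lam) : Subgroup H where
  carrier := {g | ∀ m : M, (g • m) * m⁻¹ ∈ h.CK}
  one_mem' := fun m => by rw [one_smul, mul_inv_cancel]; exact h.CK.one_mem
  mul_mem' := by
    intro a b ha hb m
    have h1 := h.CK.mul_mem (h.CK_inv a _ (hb m)) (ha m)
    have h2 : a • ((b • m) * m⁻¹) * ((a • m) * m⁻¹) = ((a * b) • m) * m⁻¹ := by
      rw [smul_mul', smul_inv', mul_smul]; group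
    rwa [h2] at h1
  inv_mem' := by
    intro a ha m
    have h1 := h.CK.inv_mem (h.CK_inv a⁻¹ _ (ha m))
    have h2 : (a⁻¹ • ((a • m) * m⁻¹))⁻¹ = (a⁻¹ • m) * m⁻¹ := by
      rw [smul_mul', inv_smul_smul, smul_inv', mul_inv_rev, inv_inv]
    rwa [h2] at h1

theorem mem_ker (h : ABS H M T Y B Lam) {g : H} : g ∈ h.ker ↔ ∀ m : M, (g • m) * m⁻¹ ∈ h.CK := Iff.rfl

theorem ker_normal (h : ABS H M T Y B Lam) : h.ker.Normal := ⟨fun g hg x m => by
  have h1 := h.CK_inv x _ (hg (x⁻¹ • m))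
  have h2 : x • ((g • x⁻¹ • m) * (x⁻¹ • m)⁻¹) = ((x * g * x⁻¹) • m) * m⁻¹ := by
    rw [smul_mul', smul_inv', smul_inv_smul, mul_smul, mul_smul]
  rwa [h2] at h1⟩

/-- **`H` is faithful on `M / C_M(O²(H))`** -/
theorem ker_bot (h : ABS H M T Y B Lam) : h.ker = ⊥ := by
  have h1 : h.ker ⊓ oddGen (⊤ : Subgroup H) = ⊥ := by
    have n1 := h.ker_normal
    have n2 := h.K_normal
    refine h.norm_two (normal_inf_normal _ _) fun f => ⟨1, Subtype.ext ?_⟩
    obtain ⟨f, hf1, hf2⟩ := f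
    show f ^ 2 ^ 1 = 1
    rw [pow_one, pow_two]
    refine h.faith _ fun m => ?_
    have h2 := hf1 m f hf2
    have h3 : f • m = (f • m) * m⁻¹ * m := by rw [inv_mul_cancel_right]
    have h4 : f • f • m = f • ((f • m) * m⁻¹ * m) := congrArg (f • ·) h3
    have h5 : (f • m) * m⁻¹ * (f • m) = m := by
      rw [mul_assoc, h.comm m⁻¹ (f • m), ← mul_assoc, h.sq, one_mul, h.inv_eq]
    rw [mul_smul, h4, smul_mul', h2, h5]
  refine h.norm_two h.ker_normal fun f => ?_
  obtain ⟨f, hf⟩ := f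
  obtain ⟨a, m, hm, ha⟩ := Nat.exists_eq_pow_mul_and_not_dvd (orderOf_pos f).ne' 2 (by norm_num)
  refine ⟨a, Subtype.ext ?_⟩
  show f ^ 2 ^ a = 1
  have hm0 : 0 < m := Nat.pos_of_ne_zero (by rintro rfl; simp at hm)
  have h2 : orderOf (f ^ 2 ^ a) = m := by
    rw [orderOf_pow_of_dvd (by positivity) (ha ▸ Dvd.intro _ rfl), ha, Nat.mul_div_cancel_left _ (by positivity)]
  have h3 : f ^ 2 ^ a ∈ h.ker ⊓ oddGen (⊤ : Subgroup H) :=
    ⟨pow_mem hf _, mem_oddGen (mem_top _) (by rw [h2]; exact Nat.not_even_iff_odd.1 fun h => hm h.two_dvd)⟩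
  rw [h1] at h3
  exact mem_bot.1 h3

/-- **the stabiliser of the image of `v`** -/
theorem stab' (h : ABS H M T Y B Lam) {v : M} (hv : v ∈ Lam) (hv1 : v ≠ 1) {g : H} (hg : (g • v) * v⁻¹ ∈ h.CK) :
    g ∈ Y := by
  let S : Subgroup H :=
    { carrier := {g | (g • v) * v⁻¹ ∈ h.CK}
      one_mem' := by
        show ((1 : H) • v) * v⁻¹ ∈ h.CK
        rw [one_smul, mul_inv_cancel]; exact h.CK.one_mem
      mul_mem' := by
        intro a b ha hb
        have h1 := h.CK.mul_mem (h.CK_inv a _ hb) ha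
        have h2 : a • ((b • v) * v⁻¹) * ((a • v) * v⁻¹) = ((a * b) • v) * v⁻¹ := by
          rw [smul_mul', smul_inv', mul_smul]; group
        rwa [h2] at h1
      inv_mem' := by
        intro a ha
        have h1 := h.CK.inv_mem (h.CK_inv a⁻¹ _ ha)
        have h2 : (a⁻¹ • ((a • v) * v⁻¹))⁻¹ = (a⁻¹ • v) * v⁻¹ := by
          rw [smul_mul', inv_smul_smul, smul_inv', mul_inv_rev, inv_inv]
        rwa [h2] at h1 }
  have hTS : T ≤ S := fun t ht => by
    show (t • v) * v⁻¹ ∈ h.CK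
    rw [h.fixT t ht v hv, mul_inv_cancel]
    exact h.CK.one_mem
  have hSyl : ¬ 2 ∣ T.relIndex S := fun h1 => h.syl (h1.trans (relIndex_dvd_index_of_le hTS))
  have h1 : S ≤ Y := by
    rw [← oddGen_sup_top hTS hSyl]
    refine sup_le ?_ (h.TY hv hv1)
    rw [oddGen_def, closure_le]
    rintro x ⟨hx, ho⟩
    have hxK : x ∈ oddGen (⊤ : Subgroup H) := mem_oddGen (mem_top x) ho
    set d := (x • v) * v⁻¹ with hd
    have hxv : x • v = d * v := by rw [hd, inv_mul_cancel_right]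
    have hxd : x • d = d := hx x hxK
    have key : ∀ n : ℕ, x ^ n • v = d ^ n * v := by
      intro n
      induction n with
      | zero => rw [pow_zero, pow_zero, one_smul, one_mul]
      | succ n ih => rw [pow_succ', mul_smul, ih, smul_mul', smul_pow', hxd, hxv, ← mul_assoc, ← pow_succ]
    have h2 := key (orderOf x)
    rw [pow_orderOf_eq_one, one_smul] at h2
    obtain ⟨n, hn⟩ := ho
    rw [hn, pow_succ, pow_mul, pow_two, h.sq, one_pow, one_mul] at h2
    refine (h.stab v hv hv1 x).1 ?_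
    rw [hxv, ← h2]
  exact h1 hg

/-- **`B` is exact on `M / C_M(O²(H))`** -/
theorem exactN [Finite M] (h : ABS H M T Y B Lam) (hML : MLK.{u, v}) (hK : IsKGroup H) :
    (h.bw h.CK).index = Nat.card B := by
  obtain ⟨v, hv, hv1⟩ := h.exists_v
  have htop := h.sup_top hML hK hv hv1
  have n1 := h.norm (h.bw h.CK)
  have hD : h.CK ≤ h.bw h.CK := fun m hm b hb => mul_mem (h.CK_inv b m hm) (inv_mem hm)
  have h1 : orb (⊤ : Subgroup H) v ⊔ h.bw h.CK = ⊤ := by
    rw [eq_top_iff, ← htop]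
    exact sup_le (hD.trans le_sup_right) le_sup_left
  have h2 : (h.bw h.CK).index = (h.bw h.CK).relIndex (orb (⊤ : Subgroup H) v) := by
    rw [← relIndex_sup_right, h1, relIndex_top_right]
  rw [h2]
  apply le_antisymm
  · rw [← h.exact v hv hv1]
    refine Nat.le_of_dvd (Nat.pos_of_ne_zero (relIndex_ne' _ _)) (relIndex_dvd_of_le_left _ ?_)
    intro m hm b hb
    rw [hm b hb, mul_inv_cancel]
    exact one_mem _
  · refine (h.ml hML hK hv hv1 (W := h.CK ⊓ orb (⊤ : Subgroup H) v)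
      (fun g w hw => ⟨h.CK_inv g w hw.1, orb_inv v g hw.2⟩) le_rfl (fun h3 => h.v_nmem hv hv1 h3.1)).trans ?_
    rw [← inf_relIndex_right (h.bw h.CK)]
    refine Nat.le_of_dvd (Nat.pos_of_ne_zero (relIndex_ne' _ _)) (relIndex_dvd_of_le_left _ ?_)
    rintro m ⟨hm, hmU⟩ b hb
    exact ⟨hm b hb, (orb (⊤ : Subgroup H) v).mul_mem (orb_inv v b hmU) ((orb (⊤ : Subgroup H) v).inv_mem hmU)⟩

end ABS

/-- **The output of (4)**: the irreducible module. -/
structure IR (H : Type u) [Group H] (N : Type v) [Group N] [MulDistribMulAction H N] (T Y B : Subgroup H)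
    (Lam : Subgroup N) : Prop where
  sq : ∀ m : N, m * m = 1
  faith : ∀ h : H, (∀ m : N, h • m = m) → h = 1
  irr : ∀ W : Subgroup N, (∀ h : H, ∀ w ∈ W, h • w ∈ W) → W = ⊥ ∨ W = ⊤
  two : IsPGroup 2 T
  syl : ¬ 2 ∣ T.index
  fixT : ∀ t ∈ T, ∀ v ∈ Lam, t • v = v
  four : 4 ≤ Nat.card Lam
  stab : ∀ v ∈ Lam, v ≠ 1 → ∀ h : H, h • v = v ↔ h ∈ Y
  Yne : Y ≠ ⊤
  BT : B ≤ T
  el : ∀ b ∈ B, b * b = 1
  ne : B ≠ ⊥
  low : ∀ R : Subgroup H, T ≤ R → R ≠ ⊤ → B ≤ o2 R
  exact : (cv N (B : Set H)).index = Nat.card B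

/-- **(4) of #22122** -/
theorem ABS.out {H : Type u} [Group H] [Finite H] {M : Type v} [Group M] [Finite M] [MulDistribMulAction H M]
    {T Y B : Subgroup H} {Lam : Subgroup M} (h : ABS H M T Y B Lam) (hML : MLK.{u, v}) (hK : IsKGroup H) :
    ∃ (N : Type v) (_ : Group N) (_ : Finite N) (_ : MulDistribMulAction H N) (π : M →* N), Function.Surjective π ∧
      (∀ (g : H) (m : M), π (g • m) = g • π m) ∧
      (∀ m : M, π m = 1 ↔ m ∈ cv M (oddGen (⊤ : Subgroup H) : Set H)) ∧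
      (∀ v ∈ Lam, v ≠ 1 → π v ≠ 1) ∧ IR H N T Y B (Lam.map π) := by
  have hn := h.norm h.CK
  let _ := quoAct (X := H) h.CK h.CK_inv
  let mk : M →* M ⧸ h.CK := QuotientGroup.mk' h.CK
  have hsm : ∀ (g : H) (m : M), mk (g • m) = g • mk m := fun _ _ => rfl
  have hone : ∀ m : M, mk m = 1 ↔ m ∈ h.CK := fun m => QuotientGroup.eq_one_iff m
  have heq : ∀ a b : M, mk a = mk b ↔ a * b⁻¹ ∈ h.CK := by
    intro a b
    rw [← mul_inv_eq_one, ← map_inv, ← map_mul, hone]
  have hv1 : ∀ v ∈ Lam, v ≠ 1 → mk v ≠ 1 := fun v hv hv1 e => h.v_nmem hv hv1 ((hone v).1 e)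
  refine ⟨M ⧸ h.CK, inferInstance, inferInstance, inferInstance, mk, QuotientGroup.mk'_surjective _, hsm, hone, hv1,
    ?_, ?_, ?_, h.two, h.syl, ?_, ?_, ?_, h.Yne, h.BT, h.el, h.B_ne, h.low, ?_⟩
  · intro x
    obtain ⟨m, rfl⟩ := QuotientGroup.mk'_surjective h.CK x
    rw [← map_mul, h.sq, map_one]
  · intro g hg
    have h1 : g ∈ h.ker := fun m => (heq _ _).1 (hg (mk m))
    rw [h.ker_bot] at h1
    exact mem_bot.1 h1
  · intro W hW
    have h1 : h.CK ≤ W.comap mk := fun m hm => by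
      rw [mem_comap, (hone m).2 hm]
      exact one_mem _
    rcases h.irr hML hK (W := W.comap mk) (fun g m hm => hW g _ hm) h1 with h2 | h2
    · left
      rw [eq_bot_iff]
      intro x hx
      obtain ⟨m, rfl⟩ := QuotientGroup.mk'_surjective h.CK x
      have h3 : m ∈ W.comap mk := hx
      rw [h2] at h3
      exact mem_bot.2 ((hone m).2 h3)
    · right
      rw [eq_top_iff]
      intro x _
      obtain ⟨m, rfl⟩ := QuotientGroup.mk'_surjective h.CK x
      have h3 : m ∈ W.comap mk := by rw [h2]; exact mem_top m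
      exact h3
  · rintro t ht _ ⟨v, hv, rfl⟩
    rw [← hsm, h.fixT t ht v hv]
  · have h1 : Nat.card Lam ≤ Nat.card (Lam.map mk) := by
      refine Nat.card_le_card_of_injective (fun v : Lam => (⟨mk v, v, v.2, rfl⟩ : Lam.map mk)) ?_
      intro v w hvw
      have h2 : mk (v : M) = mk (w : M) := congrArg Subtype.val hvw
      have h3 : mk ((v : M) * (w : M)⁻¹) = 1 := by rw [map_mul, map_inv, h2, mul_inv_cancel]
      by_contra hne
      refine hv1 _ (Lam.mul_mem v.2 (Lam.inv_mem w.2)) (fun e => hne (Subtype.ext (mul_inv_eq_one.1 e))) h3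
    exact h.four.trans h1
  · rintro _ ⟨v, hv, rfl⟩ hne g
    have hv0 : v ≠ 1 := by
      rintro rfl
      exact hne (map_one mk)
    constructor
    · intro e
      exact h.stab' hv hv0 ((heq _ _).1 e)
    · intro hg
      rw [← hsm, (h.stab v hv hv0 g).2 hg]
  · have h1 : (cv (M ⧸ h.CK) (B : Set H)).comap mk = h.bw h.CK := by
      ext m
      constructor
      · intro hm b hb
        exact (heq _ _).1 (hm b hb)
      · intro hm b hb
        exact (heq _ _).2 (hm b hb)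
    rw [← h.exactN hML hK, ← h1, index_comap_of_surjective _ (QuotientGroup.mk'_surjective _)]

end Cfsg.Agent.Omega.NO3b.EndX
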