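import Cfsg.Agent.Omega.NO3b.EndX.Def
import Cfsg.Agent.Omega.NO3b.EndX.Irr

/-!
# The exact end of NotFF (v2), P3: from the irreducible module to the module `⟨lam^H⟩`

**`absP_of`** : `MLK → AbsIP → AbsP`.
-/

set_option autoImplicit false

namespace Cfsg.Agent.Omega.NO3b.EndX

open Subgroup Cfsg Cfsg.Agent.ZN Cfsg.Agent.ClassTwoFusion.Quad Cfsg.Agent.Omega.ML.MinFrame
open Cfsg.Agent.Omega.FFBr (odd mem_odd)
open Cfsg.Agent.Omega.ML.Final (MLK)
open Cfsg.Agent.MinSimple.VModule

universe u v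

section

variable {H : Type u} [Group H] {M : Type v} [Group M] [MulDistribMulAction H M] {T B Y : Subgroup H}
  {lam : Subgroup M}

theorem oddGen_top_eq_oo : oddGen (⊤ : Subgroup H) = oo H := by
  rw [oddGen_def, oo]
  congr 1
  ext x
  exact ⟨fun h => h.2, fun h => ⟨mem_top x, h⟩⟩

theorem mem_odd_iff_cv {m : M} : m ∈ odd H M ↔ m ∈ cv M (oddGen (⊤ : Subgroup H) : Set H) := by
  constructor
  · intro hm
    have h1 : oddGen (⊤ : Subgroup H) ≤ MulAction.stabilizer H m := by
      rw [oddGen_def, closure_le]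
      rintro x ⟨-, hx⟩
      exact hm x hx
    exact fun k hk => h1 hk
  · intro hm x hx
    exact hm x (mem_oddGen (mem_top x) hx)

/-- `Abs` is `ABS` -/
theorem Abs.toABS (h : Abs T B Y lam) : ABS H M T Y B lam where
  sq := h.sq
  faith := h.faith
  two := h.two
  syl := h.syl
  fixT t ht v hv := by
    by_cases hv1 : v = 1
    · rw [hv1, smul_one]
    · exact (h.stab v hv hv1 t).2 (h.TY ht)
  four := h.four
  stab := h.stab
  Yne := h.Yne
  gen U hU hinv := h.gen U fun g v hv => hinv g v (hU hv)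
  BT := h.BT
  el := h.el
  low := h.low
  exact := h.exact
  small := by
    have := h.lt
    rwa [pow_two] at this

end

/-- **P3 of the exact end** -/
theorem absP_of (hML : MLK.{u, v}) (hI : AbsIP.{u, v}) : AbsP.{u, v} := by
  intro H _ _ M _ _ _ T B Y lam hK hO h
  obtain ⟨N, iN, fN, aN, π, hsurj, hsm, hone, hne, hir⟩ := h.toABS.out hML hK
  have hI2 : AbsI T B Y (lam.map π) :=
    { sq := hir.sq
      faith := hir.faith
      irr := hir.irr
      two := h.two
      syl := h.syl
      stab := hir.stab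
      TY := h.TY
      Yne := h.Yne
      four := hir.four
      BT := h.BT
      Bne := h.Bne
      el := h.el
      low := h.low
      exact := hir.exact }
  have hodd : odd H N = ⊥ := by
    rcases hir.irr (odd H N) (fun g w hw x hx => by
      have h1 : Odd (orderOf (g⁻¹ * x * g)) := by
        have h0 : orderOf (MulAut.conj g⁻¹ x) = orderOf x := MulEquiv.orderOf_eq _ _
        rw [MulAut.conj_apply, inv_inv] at h0
        rwa [h0]
      have h2 := hw _ h1
      rw [mul_smul, mul_smul, inv_smul_eq_iff] at h2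
      exact h2) with h1 | h1
    · exact h1
    · exfalso
      have h2 : oddGen (⊤ : Subgroup H) = ⊥ := by
        rw [eq_bot_iff]
        intro k hk
        refine mem_bot.2 (hir.faith k fun m => ?_)
        have h3 : m ∈ odd H N := by rw [h1]; exact mem_top m
        exact mem_odd_iff_cv.1 h3 k hk
      have h3 := h.toABS.K_sup
      rw [h2, bot_sup_eq] at h3
      exact h.Yne (top_unique (h3.symm.le.trans h.TY))
  intro v hv hv1 v' hv'
  have h1 := hI H N T B Y (lam.map π) hK hO hI2 (π v) ⟨v, hv, rfl⟩ (hne v hv hv1) (π v') ⟨v', hv', rfl⟩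
  rw [hodd, sup_bot_eq] at h1
  have h2 : closure {m : N | ∃ n ∈ normalizer ((T ⊓ oo H : Subgroup H) : Set H), m = n • π v} ≤
      (closure {m : M | ∃ n ∈ normalizer ((T ⊓ oo H : Subgroup H) : Set H), m = n • v}).map π := by
    rw [closure_le]
    rintro _ ⟨n, hn, rfl⟩
    exact ⟨n • v, subset_closure ⟨n, hn, rfl⟩, hsm n v⟩
  obtain ⟨u, hu, huv⟩ := h2 h1
  have h3 : π (v' * u⁻¹) = 1 := by rw [map_mul, map_inv, huv, mul_inv_cancel]
  have h4 : v' * u⁻¹ ∈ odd H M := mem_odd_iff_cv.2 ((hone _).1 h3)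
  have h5 : v' = u * (u⁻¹ * v') := by rw [mul_inv_cancel_left]
  rw [h5]
  refine mul_mem_sup hu ?_
  rwa [h.toABS.comm u⁻¹ v']

end Cfsg.Agent.Omega.NO3b.EndX
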