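import Cfsg.Agent.Omega.NO3b.EndX.Def
import Cfsg.Agent.Omega.ML.Ex.RedDef

/-!
# The exact end, part (5) of #22122: the atom (helper354)

* `AbsI.sub` : `|C| ≤ |M : C_M(C)|` for `C ≤ B` (from (ML));
* `AbsI.two_lt_index` : no transvections: `2 < |M : C_M(b)|` for `b ≠ 1`;
* **`AbsI.exists_mn`** : there is an exact atom `1 ≠ B₁ ≤ B`, and `Red.Mn T B₁ v` (the input of THEOREM RED) holds for all
  `1 ≠ v ∈ lam`.
-/

set_option autoImplicit false
set_option linter.unusedSectionVars false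

namespace Cfsg.Agent.Omega.NO3b.EndX

open Subgroup Cfsg Cfsg.Agent.ZN Cfsg.Agent.ClassTwoFusion.Quad Cfsg.Agent.Omega.ML.MinFrame
open Cfsg.Agent.Omega.ML.Final Cfsg.Agent.Omega.NOThree.NoOver Cfsg.Agent.Omega.ML.CD Cfsg.Agent.Omega.ML
open Cfsg.Agent.MinSimple.VModule (o2_isPGroup o2_le le_o2 le_normalizer_o2)

universe u v

variable {H : Type u} [Group H] {M : Type v} [Group M] [MulDistribMulAction H M] {T B Y : Subgroup H}
  {lam : Subgroup M}

namespace AbsI

theorem fixT_atm (h : AbsI T B Y lam) {v : M} (hv : v ∈ lam) : ∀ t ∈ T, t • v = v := by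
  intro t ht
  by_cases h1 : v = 1
  · rw [h1, smul_one]
  · exact (h.stab v hv h1 t).2 (h.TY ht)

theorem orb_top_atm (h : AbsI T B Y lam) {v : M} (h1 : v ≠ 1) : orb (⊤ : Subgroup H) v = ⊤ := by
  refine (h.irr _ fun g w hw => smul_mem_orb (mem_top g) hw).resolve_left fun h2 => h1 ?_
  have h3 := mem_orb_self (⊤ : Subgroup H) v
  rwa [h2, mem_bot] at h3

theorem exists_v (h : AbsI T B Y lam) : ∃ v ∈ lam, v ≠ 1 := by
  have h1 := h.four
  have h2 : lam ≠ ⊥ := by
    intro h3
    rw [h3, card_bot] at h1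
    omega
  obtain ⟨a, ha⟩ := ne_bot_iff_exists_ne_one.1 h2
  exact ⟨a, a.2, fun h3 => ha (Subtype.ext h3)⟩

variable [Finite H] [Finite M]

/-- **sub-exactness** -/
theorem sub (h : AbsI T B Y lam) (ml : MLK.{u, v}) (hK : IsKGroup H) {C : Subgroup H} (hC : C ≤ B) :
    Nat.card C ≤ (cv M (C : Set H)).index := by
  obtain ⟨v, hv, h1⟩ := h.exists_v
  have hBY : B ≤ o2 Y := h.low Y h.TY h.Yne
  have hD : Dat T (o2 Y) C v := by
    refine ⟨h.sq, h.two, h.syl, h.fixT_atm hv, ?_, ?_, ?_, ?_, ?_⟩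
    · intro q hq
      obtain ⟨n, hn⟩ := o2_isPGroup Y ⟨q, hq⟩
      have h2 : q ^ 2 ^ n = 1 := congrArg Subtype.val hn
      exact ⟨n, fun w => by rw [h2, one_smul]⟩
    · exact fun q hq => (h.stab v hv h1 q).2 (o2_le Y hq)
    · intro g hg q hq
      exact ⟨_, (mem_normalizer_iff.1 (le_normalizer_o2 Y ((h.stab v hv h1 g).1 hg)) q).1 hq, fun _ => rfl⟩
    · exact fun a ha => ⟨a, hBY (hC ha), fun _ => rfl⟩
    · intro a ha w
      rw [← mul_smul, h.el a (hC ha), one_smul]
  have key := ml.act hK hD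
  rw [h.orb_top_atm h1] at key
  have h2 : fxr H (⊤ : Subgroup M) = ⊥ := by
    rw [eq_bot_iff]
    exact fun x hx => mem_bot.2 (h.faith x fun m => hx m (mem_top m))
  rwa [h2, relIndex_bot_left, relIndex_top_right] at key

/-- `H` contains no transvections -/
theorem two_lt_index (h : AbsI T B Y lam) {b : H} (hb1 : b ≠ 1) : 2 < (cv M ({b} : Set H)).index := by
  by_contra hlt
  have h2 : (cv M ({b} : Set H)).index ≤ 2 := not_lt.1 hlt
  -- `b` fixes all conjugates of `Y`-points
  have key : ∀ g : H, ∀ m ∈ lam, b • g • m = g • m := by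
    intro g
    have hlam : Nat.card lam ≤ 2 * Nat.card (lam ⊓ (cv M ({b} : Set H)).comap
        (MulDistribMulAction.toMonoidHom M g) : Subgroup M) := by
      set W := (cv M ({b} : Set H)).comap (MulDistribMulAction.toMonoidHom M g) with hW
      have h3 : W.index ≤ 2 := by
        rw [hW, index_comap_of_surjective]
        · exact h2
        · intro m
          exact ⟨g⁻¹ • m, smul_inv_smul g m⟩
      have h4 : W.relIndex lam ≤ W.index := by
        have h5 := relIndex_top_right W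
        rw [← h5]
        exact relIndex_le_of_le_right le_top (by rw [h5]; exact index_ne_zero_of_finite)
      have h6 : W.relIndex lam * Nat.card (lam ⊓ W : Subgroup M) = Nat.card lam := by
        have h7 : Nat.card (W.subgroupOf lam) = Nat.card (lam ⊓ W : Subgroup M) := by
          rw [← inf_subgroupOf_left W lam]
          exact Nat.card_congr (subgroupOfEquivOfLe inf_le_left).toEquiv
        rw [← h7, mul_comm]
        exact card_mul_index (W.subgroupOf lam)
      rw [← h6]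
      exact Nat.mul_le_mul_right _ (h4.trans h3)
    have h7 : (lam ⊓ (cv M ({b} : Set H)).comap (MulDistribMulAction.toMonoidHom M g) : Subgroup M) ≠ ⊥ := by
      intro h8
      rw [h8, card_bot] at hlam
      have := h.four
      omega
    obtain ⟨⟨m, hm⟩, hm1⟩ := ne_bot_iff_exists_ne_one.1 h7
    have hm0 : m ≠ 1 := fun h9 => hm1 (Subtype.ext h9)
    have h10 : b • g • m = g • m := hm.2 b rfl
    have h11 : (g⁻¹ * b * g) • m = m := by
      rw [mul_smul, mul_smul, h10, inv_smul_smul]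
    have h12 := (h.stab m hm.1 hm0 _).1 h11
    intro m' hm'
    by_cases hm'1 : m' = 1
    · rw [hm'1, smul_one, smul_one]
    · have h13 := (h.stab m' hm' hm'1 _).2 h12
      rw [mul_smul, mul_smul, inv_smul_eq_iff] at h13
      exact h13
  obtain ⟨v, hv, h1⟩ := h.exists_v
  refine hb1 (h.faith b fun m => ?_)
  have h14 : orb (⊤ : Subgroup H) v ≤ cv M ({b} : Set H) := orb_le fun g _ x hx => by
    rw [Set.mem_singleton_iff.1 hx]
    exact key g v hv
  rw [h.orb_top_atm h1] at h14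
  exact h14 (mem_top m) b rfl

/-- **the exact atom and the input of THEOREM RED** -/
theorem exists_mn (h : AbsI T B Y lam) (ml : MLK.{u, v}) (hK : IsKGroup H) (hodd : OddFree H) (hn : ¬ Nmax T) :
    ∃ B₁ ≤ B, B₁ ≠ ⊥ ∧ ∀ v ∈ lam, v ≠ 1 → Ex.Red.Mn T B₁ v := by
  obtain ⟨B₁, ⟨hle, hne, hex⟩, hmin⟩ := (Set.toFinite {C : Subgroup H | C ≤ B ∧ C ≠ ⊥ ∧
    (cv M (C : Set H)).index = Nat.card C}).exists_minimal ⟨B, le_rfl, h.Bne, h.exact⟩
  refine ⟨B₁, hle, hne, fun v hv h1 => ?_⟩
  have h4 : 4 ≤ Nat.card B₁ := by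
    obtain ⟨⟨b, hb⟩, hb1⟩ := ne_bot_iff_exists_ne_one.1 hne
    have hb0 : b ≠ 1 := fun h2 => hb1 (Subtype.ext h2)
    have h3 : cv M (B₁ : Set H) ≤ cv M ({b} : Set H) := cv_anti (Set.singleton_subset_iff.2 hb)
    have h5 : (cv M ({b} : Set H)).index ≤ Nat.card B₁ := by
      rw [← hex]
      exact Nat.le_of_dvd (Nat.pos_of_ne_zero index_ne_zero_of_finite) (index_dvd_of_le h3)
    have h6 := h.two_lt_index hb0
    obtain ⟨n, hn⟩ := IsPGroup.iff_card.1 (h.two.to_le (hle.trans h.BT))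
    rw [hn] at h5 ⊢
    match n, h5 with
    | 0, h5 => rw [pow_zero] at h5; omega
    | 1, h5 => rw [pow_one] at h5; omega
    | n + 2, _ => rw [pow_add]; have := Nat.one_le_two_pow (n := n); omega
  exact {
    sq := h.sq
    faith := h.faith
    gen := h.orb_top_atm h1
    fixT := h.fixT_atm hv
    odd := fun N hN hN2 => hodd N hN hN2
    two := h.two
    syl := h.syl
    el := fun b hb => h.el b (hle hb)
    four := h4
    exact := hex
    atom := fun C hC hC1 hC2 => lt_of_le_of_ne (h.sub ml hK (hC.trans hle)) fun h5 =>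
      hC2 (le_antisymm hC (hmin ⟨hC.trans hle, hC1, h5.symm⟩ hC))
    low := fun R hR hR1 => hle.trans (h.low R hR hR1)
    nmax := hn }

end AbsI

end Cfsg.Agent.Omega.NO3b.EndX
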