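import Cfsg.Agent.Omega.NO3b.EndX.Def
import Cfsg.Agent.Omega.ML.Comp

/-!
# The exact end, P6a: the transfer from one component (helper410's cut of THEOREM END)

`CompDat T E N₁` : `O²(H)` is the product of the `T`-conjugates of `E`, different conjugates commute, `M` is generated by
the `T`-translates of `N₁`, `E` acts on `N₁` without fixed points, `E^t` (`t ∉ N(E)`) is trivial on `N₁`,
`C_{N₁}(T ∩ E)` is a simple `N_E(T ∩ E)`-module.

* `CompDat.mem_of_fix` : the fixed points of the conjugates of `A ≤ E` come from `C_{N₁}(A)`;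
* `CompDat.nrm` : `N_E(T ∩ E) ≤ N_H(T ∩ O²(H))`;
* **`CompDat.p2`** : `P2 T lam`.
-/

set_option autoImplicit false
set_option linter.unusedSectionVars false
set_option linter.style.haveILetI false
set_option maxHeartbeats 400000

namespace Cfsg.Agent.Omega.NO3b.EndX

open Subgroup Cfsg Cfsg.Agent.ClassTwoFusion.Quad
open Cfsg.Agent.Omega.FFBr (odd mem_odd)

universe u v

/-- the data of one component -/
structure CompDat {H : Type u} [Group H] {M : Type v} [Group M] [MulDistribMulAction H M] (T E : Subgroup H)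
    (N₁ : Subgroup M) : Prop where
  Eoo : E ≤ oo H
  ooE : oo H ≤ ⨆ t : T, E.map (MulAut.conj (t : H)).toMonoidHom
  comm : ∀ t ∈ T, (∃ e ∈ E, t * e * t⁻¹ ∉ E) → ∀ e ∈ E, ∀ e' ∈ E, e * (t * e' * t⁻¹) = (t * e' * t⁻¹) * e
  inv : ∀ e ∈ E, ∀ m ∈ N₁, e • m ∈ N₁
  invT : ∀ t ∈ T ⊓ normalizer (E : Set H), ∀ m ∈ N₁, t • m ∈ N₁
  triv : ∀ t ∈ T, t ∉ normalizer (E : Set H) → ∀ e ∈ E, ∀ m ∈ N₁, (t * e * t⁻¹) • m = m
  gen : ∀ U : Subgroup M, (∀ t ∈ T, ∀ m ∈ N₁, t • m ∈ U) → U = ⊤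
  fixE : ∀ m ∈ N₁, (∀ e ∈ E, e • m = m) → m = 1
  simp : ∀ W ≤ N₁, (∀ w ∈ W, ∀ s ∈ T ⊓ E, s • w = w) →
    (∀ n ∈ E ⊓ normalizer ((T ⊓ E : Subgroup H) : Set H), ∀ w ∈ W, n • w ∈ W) → W ≠ ⊥ →
    ∀ m ∈ N₁, (∀ s ∈ T ⊓ E, s • m = m) → m ∈ W

section

variable {H : Type u} [Group H] {M : Type v} [Group M] [MulDistribMulAction H M] {T E A : Subgroup H}
  {N₁ lam : Subgroup M}

theorem comp_comm_of_sq (sq : ∀ m : M, m * m = 1) (a b : M) : a * b = b * a := by
  have h2 := sq (a * b)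
  have h3 := sq a
  have h4 := sq b
  calc a * b = a * (a * b * (a * b)) * b := by rw [h2, mul_one]
    _ = (a * a) * b * a * (b * b) := by group
    _ = b * a := by rw [h3, h4, one_mul, mul_one]

theorem comp_mem_sup (hc : ∀ a b : M, a * b = b * a) {P Q : Subgroup M} {m : M} (h : m ∈ P ⊔ Q) :
    ∃ p ∈ P, ∃ q ∈ Q, p * q = m := by
  haveI : Q.Normal := ⟨fun n hn g => by rw [hc g n, mul_inv_cancel_right]; exact hn⟩
  have h1 : m ∈ ((P ⊔ Q : Subgroup M) : Set M) := h
  rw [Subgroup.mul_normal P Q] at h1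
  obtain ⟨p, hp, q, hq, e⟩ := h1
  exact ⟨p, hp, q, hq, e⟩

/-- `H` is a product of `E` and its centraliser -/
theorem exists_mul_cen {x : H} (h : x ∈ E ⊔ centralizer (E : Set H)) :
    ∃ e ∈ E, ∃ f ∈ centralizer (E : Set H), x = e * f := by
  let S : Subgroup H :=
    { carrier := {x | ∃ e ∈ E, ∃ f ∈ centralizer (E : Set H), x = e * f}
      one_mem' := ⟨1, one_mem _, 1, one_mem _, (mul_one 1).symm⟩
      mul_mem' := by
        rintro _ _ ⟨e, he, f, hf, rfl⟩ ⟨e', he', f', hf', rfl⟩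
        refine ⟨e * e', mul_mem he he', f * f', mul_mem hf hf', ?_⟩
        have h1 := mem_centralizer_iff.1 hf e' he'
        calc e * f * (e' * f') = e * (f * e') * f' := by group
          _ = e * (e' * f) * f' := by rw [h1]
          _ = _ := by group
      inv_mem' := by
        rintro _ ⟨e, he, f, hf, rfl⟩
        refine ⟨e⁻¹, inv_mem he, f⁻¹, inv_mem hf, ?_⟩
        have h1 := mem_centralizer_iff.1 hf e he
        rw [h1, mul_inv_rev] }
  have h1 : E ⊔ centralizer (E : Set H) ≤ S := sup_le (fun e he => ⟨e, he, 1, one_mem _, (mul_one e).symm⟩)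
    (fun f hf => ⟨1, one_mem _, f, hf, (one_mul f).symm⟩)
  exact h1 h

theorem oo_conj (g : H) {x : H} (hx : x ∈ oo H) : g * x * g⁻¹ ∈ oo H := by
  have h1 : oo H ≤ (oo H).comap (MulAut.conj g).toMonoidHom := by
    unfold oo
    rw [closure_le]
    intro y hy
    refine subset_closure ?_
    show Odd (orderOf (g * y * g⁻¹))
    have h2 : orderOf ((MulAut.conj g) y) = orderOf y := MulEquiv.orderOf_eq (MulAut.conj g) y
    rw [MulAut.conj_apply] at h2
    rw [h2]
    exact hy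
  exact h1 hx

theorem oo_nrml : (oo H).Normal := ⟨fun _ hx g => oo_conj g hx⟩

variable [Finite H]

theorem mem_nrm_of_conj {g : H} (h : ∀ e ∈ E, g * e * g⁻¹ ∈ E) : g ∈ normalizer (E : Set H) := by
  have h1 : E.map (MulAut.conj g).toMonoidHom ≤ E := by
    rintro _ ⟨e, he, rfl⟩
    exact h e he
  have h2 : E.map (MulAut.conj g).toMonoidHom = E := by
    refine eq_of_le_of_card_ge h1 ?_
    rw [Nat.card_congr (E.equivMapOfInjective (MulAut.conj g).toMonoidHom (MulAut.conj g).injective).toEquiv]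
  rw [mem_normalizer_iff]
  intro x
  constructor
  · exact h x
  · intro hx
    rw [← SetLike.mem_coe, ← h2] at hx
    obtain ⟨y, hy, e⟩ := hx
    have e' : g * y * g⁻¹ = g * x * g⁻¹ := e
    rwa [← mul_left_cancel (mul_right_cancel e')]

namespace CompDat

variable (h : CompDat T E N₁)

include h

theorem comm' {t : H} (ht : t ∈ T) (hn : t ∉ normalizer (E : Set H)) {e e' : H} (he : e ∈ E) (he' : e' ∈ E) :
    e * (t * e' * t⁻¹) = (t * e' * t⁻¹) * e := by
  refine h.comm t ht ?_ e he e' he'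
  by_contra hc
  push Not at hc
  exact hn (mem_nrm_of_conj hc)

theorem oo_le : oo H ≤ E ⊔ centralizer (E : Set H) := by
  refine h.ooE.trans (iSup_le ?_)
  rintro ⟨t, ht⟩
  by_cases hn : t ∈ normalizer (E : Set H)
  · refine le_trans ?_ le_sup_left
    rintro _ ⟨e, he, rfl⟩
    exact (mem_normalizer_iff.1 hn e).1 he
  · refine le_trans ?_ le_sup_right
    rintro _ ⟨e, he, rfl⟩
    rw [mem_centralizer_iff]
    intro e' he'
    exact h.comm' ht hn he' he

/-- **the fixed points of the conjugates of `A`** -/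
theorem mem_of_fix (hc : ∀ a b : M, a * b = b * a) (hAE : A ≤ E)
    (hA : ∀ t ∈ T, t ∈ normalizer (E : Set H) → ∀ a ∈ A, t * a * t⁻¹ ∈ A) {m : M}
    (hm : ∀ t ∈ T, ∀ a ∈ A, (t * a * t⁻¹) • m = m) :
    m ∈ closure {y : M | ∃ t ∈ T, ∃ x ∈ N₁, (∀ a ∈ A, a • x = x) ∧ y = t • x} := by
  have key : ∀ l : List H, (∀ t ∈ l, t ∈ T) → ∀ m ∈ closure {y : M | ∃ t ∈ l, ∃ x ∈ N₁, y = t • x},
      (∀ t ∈ T, ∀ a ∈ A, (t * a * t⁻¹) • m = m) →
      m ∈ closure {y : M | ∃ t ∈ T, ∃ x ∈ N₁, (∀ a ∈ A, a • x = x) ∧ y = t • x} := by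
    intro l
    induction l with
    | nil =>
      intro _ m hm _
      have h1 : {y : M | ∃ t ∈ ([] : List H), ∃ x ∈ N₁, y = t • x} = ∅ := by
        ext y
        simp
      rw [h1, Subgroup.closure_empty, mem_bot] at hm
      rw [hm]
      exact one_mem _
    | cons t l ih =>
      intro hl m hm hfix
      have htT : t ∈ T := hl t List.mem_cons_self
      have hl' : ∀ s ∈ l, s ∈ T := fun s hs => hl s (List.mem_cons_of_mem _ hs)
      by_cases hex : ∃ s ∈ l, s⁻¹ * t ∈ normalizer (E : Set H)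
      · obtain ⟨s, hs, hst⟩ := hex
        refine ih hl' m ?_ hfix
        refine (closure_le _).2 ?_ hm
        rintro _ ⟨r, hr, x, hx, rfl⟩
        rcases List.mem_cons.1 hr with rfl | hr
        · refine subset_closure ⟨s, hs, (s⁻¹ * r) • x,
            h.invT _ (Subgroup.mem_inf.2 ⟨T.mul_mem (T.inv_mem (hl' s hs)) htT, hst⟩) x hx, ?_⟩
          rw [← mul_smul, mul_inv_cancel_left]
        · exact subset_closure ⟨r, hr, x, hx, rfl⟩
      · push Not at hex
        obtain ⟨n, hn, m', hm', rfl⟩ : ∃ n ∈ N₁, ∃ m' ∈ closure {y : M | ∃ t ∈ l, ∃ x ∈ N₁, y = t • x},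
            (t • n) * m' = m := by
          have h1 : closure {y : M | ∃ s ∈ t :: l, ∃ x ∈ N₁, y = s • x} ≤
              (N₁.map (MulDistribMulAction.toMonoidHom M t)) ⊔ closure {y : M | ∃ s ∈ l, ∃ x ∈ N₁, y = s • x} := by
            rw [closure_le]
            rintro _ ⟨r, hr, x, hx, rfl⟩
            rcases List.mem_cons.1 hr with rfl | hr
            · exact mem_sup_left ⟨x, hx, rfl⟩
            · exact mem_sup_right (subset_closure ⟨r, hr, x, hx, rfl⟩)
          obtain ⟨p, hp, q, hq, e⟩ := comp_mem_sup hc (h1 hm)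
          obtain ⟨n, hn, rfl⟩ := hp
          exact ⟨n, hn, q, hq, e⟩
        have h2 : ∀ e ∈ E, ∀ y ∈ closure {y : M | ∃ t ∈ l, ∃ x ∈ N₁, y = t • x}, (t * e * t⁻¹) • y = y := by
          intro e he y hy
          refine closure_induction (p := fun y _ => (t * e * t⁻¹) • y = y) ?_ ?_ ?_ ?_ hy
          · rintro _ ⟨s, hs, x, hx, rfl⟩
            have h3 : ((s⁻¹ * t) * e * (s⁻¹ * t)⁻¹) • x = x :=
              h.triv _ (T.mul_mem (T.inv_mem (hl' s hs)) htT) (hex s hs) e he x hx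
            rw [← mul_smul, show t * e * t⁻¹ * s = s * ((s⁻¹ * t) * e * (s⁻¹ * t)⁻¹) by group, mul_smul, h3]
          · exact smul_one _
          · intro a b _ _ ha hb
            rw [smul_mul', ha, hb]
          · intro a _ ha
            rw [smul_inv', ha]
        have hn' : ∀ a ∈ A, a • n = n := by
          intro a ha
          have h3 := hfix t htT a ha
          rw [smul_mul', h2 a (hAE ha) m' hm'] at h3
          have h4 : (t * a * t⁻¹) • t • n = t • n := mul_right_cancel h3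
          rw [← mul_smul, inv_mul_cancel_right, mul_smul] at h4
          exact MulAction.injective t h4
        have hfix' : ∀ r ∈ T, ∀ a ∈ A, (r * a * r⁻¹) • (t • n) = t • n := by
          intro r hr a ha
          by_cases h5 : t⁻¹ * r ∈ normalizer (E : Set H)
          · have h6 := hA _ (T.mul_mem (T.inv_mem htT) hr) h5 a ha
            have h7 := hn' _ h6
            rw [← mul_smul, show r * a * r⁻¹ * t = t * ((t⁻¹ * r) * a * (t⁻¹ * r)⁻¹) by group, mul_smul, h7]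
          · have h6 : ((t⁻¹ * r) * a * (t⁻¹ * r)⁻¹) • n = n :=
              h.triv _ (T.mul_mem (T.inv_mem htT) hr) h5 a (hAE ha) n hn
            rw [← mul_smul, show r * a * r⁻¹ * t = t * ((t⁻¹ * r) * a * (t⁻¹ * r)⁻¹) by group, mul_smul, h6]
        refine mul_mem (subset_closure ⟨t, htT, n, hn, hn', rfl⟩) (ih hl' m' hm' ?_)
        intro r hr a ha
        have h6 := hfix r hr a ha
        rw [smul_mul', hfix' r hr a ha] at h6
        exact mul_left_cancel h6
  have hfin : (T : Set H).Finite := Set.toFinite _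
  refine key hfin.toFinset.toList (fun t ht => by simpa using ht) m ?_ hm
  have htop : closure {y : M | ∃ t ∈ hfin.toFinset.toList, ∃ x ∈ N₁, y = t • x} = ⊤ := by
    refine h.gen _ fun t ht x hx => subset_closure ⟨t, by simpa using ht, x, hx, rfl⟩
  rw [htop]
  exact mem_top m

/-- the fixed points of `T` and `E` -/
theorem eq_one_of_fix (hc : ∀ a b : M, a * b = b * a) {m : M} (hT : ∀ t ∈ T, t • m = m) (hE : ∀ e ∈ E, e • m = m) :
    m = 1 := by
  have h1 := h.mem_of_fix hc (A := E) le_rfl (fun t _ ht a ha => (mem_normalizer_iff.1 ht a).1 ha) (m := m) (by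
    intro t ht a ha
    rw [mul_smul, mul_smul, hT _ (inv_mem ht), hE a ha, hT t ht])
  have h2 : closure {y : M | ∃ t ∈ T, ∃ x ∈ N₁, (∀ a ∈ E, a • x = x) ∧ y = t • x} ≤ ⊥ := by
    rw [closure_le]
    rintro _ ⟨t, -, x, hx, hfx, rfl⟩
    rw [h.fixE x hx hfx, smul_one]
    exact one_mem _
  exact mem_bot.1 (h2 h1)

/-- `M = N₁ C_M(E)` -/
theorem exists_dec (hc : ∀ a b : M, a * b = b * a) (m : M) : ∃ n ∈ N₁, ∃ c : M, (∀ e ∈ E, e • c = c) ∧ n * c = m := by
  have h1 : N₁ ⊔ cv M (E : Set H) = ⊤ := by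
    refine h.gen _ fun t ht x hx => ?_
    by_cases hn : t ∈ normalizer (E : Set H)
    · exact mem_sup_left (h.invT t ⟨ht, hn⟩ x hx)
    · refine mem_sup_right ?_
      intro e he
      have hn' : t⁻¹ ∉ normalizer (E : Set H) := fun h2 => hn (by simpa using inv_mem h2)
      have h2 := h.triv t⁻¹ (inv_mem ht) hn' e he x hx
      rw [inv_inv] at h2
      calc e • t • x = (t * (t⁻¹ * e * t)) • x := by rw [← mul_smul]; congr 1; group
        _ = t • x := by rw [mul_smul, h2]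
  have h2 : m ∈ N₁ ⊔ cv M (E : Set H) := by rw [h1]; exact mem_top m
  obtain ⟨p, hp, q, hq, e⟩ := comp_mem_sup hc h2
  exact ⟨p, hp, q, hq, e⟩

/-- **`N_E(T ∩ E)` normalises `T ∩ O²(H)`** -/
theorem nrm (two : IsPGroup 2 T) (syl : ¬ 2 ∣ T.index) :
    E ⊓ normalizer ((T ⊓ E : Subgroup H) : Set H) ≤ normalizer ((T ⊓ oo H : Subgroup H) : Set H) := by
  haveI : Fact (Nat.Prime 2) := ⟨Nat.prime_two⟩
  haveI := oo_nrml (H := H)
  -- `E` is subnormal
  have hEn : oo H ≤ normalizer (E : Set H) :=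
    h.oo_le.trans (sup_le le_normalizer (centralizer_le_normalizer _))
  have hEs : E.IsSubnormal := Subgroup.IsSubnormal.trans h.Eoo
    ((normal_subgroupOf_iff_le_normalizer h.Eoo).2 hEn).isSubnormal (oo_nrml (H := H)).isSubnormal
  have hrel : ¬ 2 ∣ (T ⊓ E).relIndex E := by
    rw [Subgroup.inf_relIndex_right]
    exact Cfsg.Agent.Omega.ML.MinFrame.not_dvd_relIndex_of_subnormal two syl hEs
  -- a 2-element of `E` normalising `T ∩ E`
  have hsy : ∀ x ∈ E, x ∈ normalizer ((T ⊓ E : Subgroup H) : Set H) → (∃ n : ℕ, x ^ 2 ^ n = 1) → x ∈ T ⊓ E := by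
    rintro x hx hxn ⟨n, hn⟩
    have hZ : IsPGroup 2 (zpowers x) := by
      have h3 : Nat.card (zpowers x) ∣ 2 ^ n := by
        rw [Nat.card_zpowers]
        exact orderOf_dvd_of_pow_eq_one hn
      obtain ⟨i, -, hi⟩ := (Nat.dvd_prime_pow Nat.prime_two).1 h3
      exact IsPGroup.of_card hi
    have hQ : IsPGroup 2 (zpowers x ⊔ (T ⊓ E) : Subgroup H) :=
      IsPGroup.to_sup_of_normal_right' hZ (two.to_le inf_le_left) (zpowers_le.2 hxn)
    have hQE : zpowers x ⊔ (T ⊓ E) ≤ E := sup_le (zpowers_le.2 hx) inf_le_right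
    have h1 := relIndex_mul_relIndex (T ⊓ E) (zpowers x ⊔ (T ⊓ E)) E le_sup_right hQE
    obtain ⟨k, hk⟩ := hQ.exists_card_eq
    have h2 : (T ⊓ E).relIndex (zpowers x ⊔ (T ⊓ E)) ∣ 2 ^ k := by
      rw [← hk]
      exact relIndex_dvd_card _ _
    obtain ⟨i, -, hi⟩ := (Nat.dvd_prime_pow Nat.prime_two).1 h2
    have h3 : i = 0 := by
      by_contra h0
      apply hrel
      rw [← h1, hi]
      exact Dvd.dvd.mul_right (dvd_pow_self 2 h0) _
    rw [h3, pow_zero, relIndex_eq_one] at hi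
    exact hi (mem_sup_left (mem_zpowers x))
  -- the claim for elements
  have key : ∀ k ∈ E ⊓ normalizer ((T ⊓ E : Subgroup H) : Set H), ∀ g ∈ T ⊓ oo H, k * g * k⁻¹ ∈ T ⊓ oo H := by
    rintro k ⟨hkE, hkn⟩ g ⟨hgT, hgo⟩
    obtain ⟨e, he, f, hf, rfl⟩ := exists_mul_cen (h.oo_le hgo)
    have hfe : ∀ x ∈ E, f * x = x * f := fun x hx => (mem_centralizer_iff.1 hf x hx).symm
    have hef : Commute e f := (hfe e he).symm
    have hen : e ∈ normalizer ((T ⊓ E : Subgroup H) : Set H) := by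
      refine mem_nrm_of_conj ?_
      rintro s ⟨hsT, hsE⟩
      have h1 : e * s * e⁻¹ = (e * f) * s * (e * f)⁻¹ := by
        calc e * s * e⁻¹ = e * (s * f) * f⁻¹ * e⁻¹ := by group
          _ = e * (f * s) * f⁻¹ * e⁻¹ := by rw [hfe s hsE]
          _ = _ := by group
      refine Subgroup.mem_inf.2 ⟨?_, E.mul_mem (E.mul_mem he hsE) (E.inv_mem he)⟩
      rw [h1]
      exact T.mul_mem (T.mul_mem hgT hsT) (T.inv_mem hgT)
    obtain ⟨n, hn⟩ := two ⟨e * f, hgT⟩
    have hn' : (e * f) ^ 2 ^ n = 1 := congrArg Subtype.val hn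
    have hen2 : e ^ 2 ^ n ∈ centralizer (E : Set H) := by
      rw [hef.mul_pow] at hn'
      rw [eq_inv_of_mul_eq_one_left hn']
      exact inv_mem (pow_mem hf _)
    -- the 2-part of `e`
    obtain ⟨a, b, hb, hab⟩ := Nat.exists_eq_two_pow_mul_odd (orderOf_pos e).ne'
    have hcop : Nat.Coprime (2 ^ (n + a)) b := (Nat.coprime_two_left.2 hb).pow_left _
    obtain ⟨j, hj1, hj2⟩ := Nat.chineseRemainder hcop 1 0
    obtain ⟨q, hq⟩ : ∃ q : ℤ, (j : ℤ) = 1 + 2 ^ (n + a) * q := by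
      have h1 : ((2 ^ (n + a) : ℕ) : ℤ) ∣ (j : ℤ) - (1 : ℕ) := (Nat.modEq_iff_dvd.1 hj1.symm)
      obtain ⟨q, hq⟩ := h1
      refine ⟨q, ?_⟩
      push_cast at hq
      linarith
    have hbj : b ∣ j := (Nat.modEq_zero_iff_dvd.1 hj2)
    obtain ⟨z, hz⟩ : ∃ z, z = (e ^ 2 ^ (n + a)) ^ q := ⟨_, rfl⟩
    have hz1 : z ∈ centralizer (E : Set H) := by
      rw [hz, pow_add, pow_mul]
      exact zpow_mem (pow_mem hen2 _) _
    have hez : e ^ j = e * z := by
      rw [hz, ← zpow_natCast e j, hq, zpow_add, zpow_one, zpow_mul]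
      congr 2
      rw [← zpow_natCast]
      push_cast
      rfl
    have h2 : e ^ j ∈ T ⊓ E := by
      refine hsy _ (pow_mem he _) (pow_mem hen _) ⟨a, ?_⟩
      rw [← pow_mul]
      refine orderOf_dvd_iff_pow_eq_one.1 ?_
      rw [hab, mul_comm (2 ^ a) b]
      exact Nat.mul_dvd_mul_right hbj _
    -- the commutator
    have h3 : k * e * k⁻¹ * e⁻¹ = k * e ^ j * k⁻¹ * (e ^ j)⁻¹ := by
      have hzk : z * k = k * z := (mem_centralizer_iff.1 hz1 k hkE).symm
      rw [hez]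
      symm
      calc k * (e * z) * k⁻¹ * (e * z)⁻¹ = k * e * (z * k⁻¹) * z⁻¹ * e⁻¹ := by group
        _ = k * e * (k⁻¹ * (k * z) * k⁻¹) * z⁻¹ * e⁻¹ := by group
        _ = k * e * (k⁻¹ * (z * k) * k⁻¹) * z⁻¹ * e⁻¹ := by rw [hzk]
        _ = k * e * k⁻¹ * e⁻¹ := by group
    have h4 : k * e * k⁻¹ * e⁻¹ ∈ T ⊓ E := by
      rw [h3]
      exact mul_mem ((mem_normalizer_iff.1 hkn _).1 h2) (inv_mem h2)
    have h5 : k * (e * f) * k⁻¹ = (k * e * k⁻¹ * e⁻¹) * (e * f) := by
      calc k * (e * f) * k⁻¹ = k * e * (f * k⁻¹) := by group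
        _ = k * e * (k⁻¹ * f) := by rw [hfe _ (inv_mem hkE)]
        _ = _ := by group
    rw [h5]
    exact ⟨mul_mem h4.1 hgT, mul_mem (h.Eoo h4.2) hgo⟩
  intro k hk
  rw [mem_normalizer_iff]
  intro g
  constructor
  · exact key k hk g
  · intro hg
    have h1 := key k⁻¹ (inv_mem hk) _ hg
    have e : k⁻¹ * (k * g * k⁻¹) * k⁻¹⁻¹ = g := by group
    rwa [e] at h1

/-- **P6a** -/
theorem p2 (sq : ∀ m : M, m * m = 1) (two : IsPGroup 2 T) (syl : ¬ 2 ∣ T.index)
    (fix : ∀ v ∈ lam, ∀ t ∈ T, t • v = v) (four : 4 ≤ Nat.card lam) : P2 T lam := by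
  have hc := comp_comm_of_sq sq
  have hnrm := h.nrm two syl
  -- the component of a fixed point
  have hcomp : ∀ v ∈ lam, ∀ n ∈ N₁, ∀ c : M, (∀ e ∈ E, e • c = c) → n * c = v → ∀ s ∈ T ⊓ E, s • n = n := by
    intro v hv n hn c hcE hnc s hs
    have h1 := fix v hv s hs.1
    rw [← hnc, smul_mul', hcE s hs.2] at h1
    exact mul_right_cancel h1
  intro v hv hv1 v' hv'
  obtain ⟨v₁, hv₁, c, hcE, hvc⟩ := h.exists_dec hc v
  have hs1 := hcomp v hv v₁ hv₁ c hcE hvc
  have hv₁1 : v₁ ≠ 1 := by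
    rintro rfl
    rw [one_mul] at hvc
    rw [hvc] at hcE
    exact hv1 (h.eq_one_of_fix hc (fix v hv) hcE)
  -- some `k` moves `v₁`
  obtain ⟨k, hk, hkv⟩ : ∃ k ∈ E ⊓ normalizer ((T ⊓ E : Subgroup H) : Set H), k • v₁ ≠ v₁ := by
    by_contra hcon
    push Not at hcon
    have hsq : ∀ m ∈ zpowers v₁, m = 1 ∨ m = v₁ := by
      intro m hm
      obtain ⟨i, rfl⟩ := mem_zpowers_iff.1 hm
      have h2 : v₁ ^ (2 : ℤ) = 1 := by
        have := sq v₁
        rw [zpow_ofNat, pow_two]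
        exact this
      rcases Int.even_or_odd' i with ⟨j, rfl | rfl⟩
      · left; rw [zpow_mul, h2, one_zpow]
      · right; rw [zpow_add, zpow_mul, h2, one_zpow, one_mul, zpow_one]
    have h1 := h.simp (zpowers v₁) (zpowers_le.2 hv₁)
      (fun w hw s hs => by
        rcases hsq w hw with rfl | rfl
        · exact smul_one s
        · exact hs1 s hs)
      (fun n hn w hw => by
        rcases hsq w hw with rfl | rfl
        · rw [smul_one]; exact one_mem _
        · rw [hcon n hn]; exact mem_zpowers _)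
      (fun h2 => hv₁1 (zpowers_eq_bot.1 h2))
    -- a third element of `lam`
    obtain ⟨w, hw, hw1, hwv⟩ : ∃ w ∈ lam, w ≠ 1 ∧ w ≠ v := by
      by_contra hno
      push Not at hno
      have h2 : (lam : Set M) ⊆ {1, v} := by
        intro w hw
        by_cases h3 : w = 1
        · exact Or.inl h3
        · exact Or.inr (hno w hw h3)
      have h3 := (Set.ncard_le_ncard h2 (Set.toFinite _)).trans (Set.ncard_insert_le _ _)
      rw [Set.ncard_singleton] at h3
      have h4 : (lam : Set M).ncard = Nat.card lam := rfl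
      omega
    obtain ⟨w₁, hw₁, d, hdE, hwd⟩ := h.exists_dec hc w
    have h2 := h1 w₁ hw₁ (hcomp w hw w₁ hw₁ d hdE hwd)
    rcases hsq w₁ h2 with rfl | rfl
    · rw [one_mul] at hwd
      rw [hwd] at hdE
      exact hw1 (h.eq_one_of_fix hc (fix w hw) hdE)
    · apply hwv
      have h3 : w * v⁻¹ = d * c⁻¹ := by
        rw [← hwd, ← hvc, mul_inv_rev, hc w₁ d, hc c⁻¹ w₁⁻¹]
        group
      have h4 : w * v⁻¹ = 1 := h.eq_one_of_fix hc (fun t ht => by rw [smul_mul', smul_inv', fix w hw t ht, fix v hv t ht])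
        (fun e he => by rw [h3, smul_mul', smul_inv', hdE e he, hcE e he])
      exact mul_inv_eq_one.1 h4
  -- the submodule generated by `v`
  obtain ⟨U, hU⟩ : ∃ U, U = closure {m : M | ∃ n ∈ normalizer ((T ⊓ oo H : Subgroup H) : Set H), m = n • v} := ⟨_, rfl⟩
  have hUinv : ∀ n ∈ normalizer ((T ⊓ oo H : Subgroup H) : Set H), ∀ u ∈ U, n • u ∈ U := by
    intro n hn u hu
    rw [hU] at hu ⊢
    refine closure_induction (p := fun u _ => n • u ∈ Subgroup.closure
      {m : M | ∃ n ∈ normalizer ((T ⊓ oo H : Subgroup H) : Set H), m = n • v}) ?_ ?_ ?_ ?_ hu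
    · rintro _ ⟨m, hm, rfl⟩
      exact subset_closure ⟨n * m, mul_mem hn hm, (mul_smul n m v).symm⟩
    · rw [smul_one]; exact one_mem _
    · intro a b _ _ ha hb
      rw [smul_mul']; exact mul_mem ha hb
    · intro a _ ha
      rw [smul_inv']; exact inv_mem ha
  have hvU : v ∈ U := by
    rw [hU]
    exact subset_closure ⟨1, one_mem _, (one_smul H v).symm⟩
  obtain ⟨y, hy⟩ : ∃ y, y = (k • v₁) * v₁⁻¹ := ⟨_, rfl⟩
  have hyU : y ∈ U := by
    have h1 : y = (k • v) * v⁻¹ := by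
      rw [hy, ← hvc, smul_mul', hcE k hk.1, mul_inv_rev]
      group
    rw [h1]
    exact mul_mem (hUinv k (hnrm hk) v hvU) (inv_mem hvU)
  have hy1 : y ≠ 1 := fun h1 => hkv (mul_inv_eq_one.1 (hy ▸ h1))
  have hyN : y ∈ N₁ := by rw [hy]; exact mul_mem (h.inv k hk.1 v₁ hv₁) (inv_mem hv₁)
  -- `T ∩ E` fixes `n • x` if it fixes `x`
  have hfx : ∀ n ∈ E ⊓ normalizer ((T ⊓ E : Subgroup H) : Set H), ∀ x : M, (∀ s ∈ T ⊓ E, s • x = x) →
      ∀ s ∈ T ⊓ E, s • n • x = n • x := by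
    intro n hn x hx s hs
    have h1 : n⁻¹ * s * n ∈ T ⊓ E := by
      have := (mem_normalizer_iff.1 (inv_mem hn.2) s).1 hs
      rwa [inv_inv] at this
    calc s • n • x = (n * (n⁻¹ * s * n)) • x := by rw [← mul_smul]; congr 1; group
      _ = n • x := by rw [mul_smul, hx _ h1]
  have hys : ∀ s ∈ T ⊓ E, s • y = y := by
    intro s hs
    rw [hy, smul_mul', smul_inv', hfx k hk v₁ hs1 s hs, hs1 s hs]
  have hX : ∀ m ∈ N₁, (∀ s ∈ T ⊓ E, s • m = m) → m ∈ U := by
    intro m hm hms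
    have h1 := h.simp (closure {m : M | ∃ n ∈ E ⊓ normalizer ((T ⊓ E : Subgroup H) : Set H), m = n • y}) ?_ ?_ ?_ ?_ m hm hms
    · refine (closure_le _).2 ?_ h1
      rintro _ ⟨n, hn, rfl⟩
      exact hUinv n (hnrm hn) y hyU
    · rw [closure_le]
      rintro _ ⟨n, hn, rfl⟩
      exact h.inv n hn.1 y hyN
    · intro w hw s hs
      refine closure_induction (p := fun w _ => s • w = w) ?_ ?_ ?_ ?_ hw
      · rintro _ ⟨n, hn, rfl⟩
        exact hfx n hn y hys s hs
      · exact smul_one s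
      · intro a b _ _ ha hb
        rw [smul_mul', ha, hb]
      · intro a _ ha
        rw [smul_inv', ha]
    · intro n hn w hw
      refine closure_induction (p := fun w _ => n • w ∈ Subgroup.closure
        {m : M | ∃ n ∈ E ⊓ normalizer ((T ⊓ E : Subgroup H) : Set H), m = n • y}) ?_ ?_ ?_ ?_ hw
      · rintro _ ⟨r, hr, rfl⟩
        exact subset_closure ⟨n * r, mul_mem hn hr, (mul_smul n r y).symm⟩
      · rw [smul_one]; exact one_mem _
      · intro a b _ _ ha hb
        rw [smul_mul']; exact mul_mem ha hb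
      · intro a _ ha
        rw [smul_inv']; exact inv_mem ha
    · intro h2
      apply hy1
      rw [← mem_bot, ← h2]
      exact subset_closure ⟨1, one_mem _, (one_smul H y).symm⟩
  have hTn : T ≤ normalizer ((T ⊓ oo H : Subgroup H) : Set H) := by
    intro t ht
    refine mem_nrm_of_conj ?_
    rintro g ⟨hg1, hg2⟩
    exact Subgroup.mem_inf.2 ⟨T.mul_mem (T.mul_mem ht hg1) (T.inv_mem ht), oo_conj t hg2⟩
  have h1 := h.mem_of_fix hc (A := T ⊓ E) inf_le_right (fun t ht htE a ha =>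
    Subgroup.mem_inf.2 ⟨T.mul_mem (T.mul_mem ht ha.1) (T.inv_mem ht), (mem_normalizer_iff.1 htE a).1 ha.2⟩) (m := v')
    (fun t ht a ha => fix v' hv' _ (T.mul_mem (T.mul_mem ht ha.1) (T.inv_mem ht)))
  rw [← hU]
  refine mem_sup_left ((closure_le _).2 ?_ h1)
  rintro _ ⟨t, ht, x, hx, hxs, rfl⟩
  exact hUinv t (hTn ht) x (hX x hx hxs)

end CompDat

end

end Cfsg.Agent.Omega.NO3b.EndX
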