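import Cfsg.Agent.Omega.NO3b.EndX.AbsAll
import Cfsg.Agent.Omega.NO3b.ExEnd.Final

/-!
# NotFF from (ML), the K-list for exact subgroups and the base point

* `notFFP_all` : `Merge.NotFFP K` (NO-3S);
* `notFFG_all` : `Merge.NotFFG K` (NO-3L), from the base point.

Author: helper768.
-/

set_option autoImplicit false

namespace Cfsg.Agent.Omega.NO3b.EndX

open Cfsg.Agent.Omega.Frame
open Cfsg.Agent.Omega.ML.Final (MLK)
open Cfsg.Agent.Omega.ML.Ex (RowsX)
open Cfsg.Agent.Omega.NOThreeL.Merge (NotFFP NotFFG)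

universe u

variable {K : Cls.{u}}

/-- **`Merge.NotFFP K`** (NO-3S). -/
theorem notFFP_all (ml : MLK.{u, u}) (R : RowsX.{u, u}) : NotFFP K :=
  ExEnd.notFFP_of_absP ml (absP_all ml R)

/-- **`Merge.NotFFG K`** (NO-3L). -/
theorem notFFG_all (ml : MLK.{u, u}) (R : RowsX.{u, u}) (hB : BasePt.BasePoint.{u}) : NotFFG K :=
  ExEnd.notFFG_of_absP ml (absP_all ml R) hB

end Cfsg.Agent.Omega.NO3b.EndX
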