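import Cfsg.Agent.Omega.NO3b.EndX.Sec
import Cfsg.Agent.Omega.NO3b.EZeroPair
import Cfsg.Agent.MinSimple.LemXPerm

/-!
# The exact end of NotFF (v2) (helper410, THEOREM END), step (8): LEMMA N

* `core` : pure form in `G`: `U₀ = T ∩ O²(X)`; if every `v' ∈ lam` lies in `⟨v^{N_X(U₀)}⟩ {w : [w, O²(X)] ≤ D}` for all
  `v ∈ lam \ D`, then `O²(X)` centralises `lam`;
* `Sec.lift` : the lift from `(H, M)` to `G` (Frattini);
* `Sec.false_of` : `Abs` and `P2` for a section are incompatible with `C_W(T) = C_W(X)`.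
-/

set_option autoImplicit false

namespace Cfsg.Agent.Omega.NO3b.EndX

open Subgroup Cfsg Cfsg.Agent.ZN Cfsg.Agent.ClassTwoFusion.Quad
open Cfsg.Agent.Omega.NO3b.ClosedPt (InL cw exists_L trace odd_inf cj_mem)
open Cfsg.Agent.Omega.FFBr (odd mem_odd)
open Cfsg.Agent.MinSimple.VModule (oddGen oddGen_le mem_oddGen oddGen_def normalizer_le_normalizer_oddGen
  le_normalizer_oddGen)

universe u

variable {G : Type u} [Group G]

/-- `[k, w] ∈ D` for all `k ∈ O²(X)` implies `[k, w] = 1` for all `k ∈ O²(X)`. -/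
theorem odd_cent [Finite G] {X D : Subgroup G} {w : G} (hD : X ≤ centralizer (D : Set G))
    (hsq : ∀ d ∈ D, d * d = 1) (hw : ∀ k ∈ oddGen X, k * w * k⁻¹ * w⁻¹ ∈ D) :
    ∀ k ∈ oddGen X, k * w = w * k := by
  have key : oddGen X ≤ centralizer ({w} : Set G) := by
    rw [oddGen_def, closure_le]
    rintro x ⟨hx, ho⟩
    refine mem_centralizer_iff.2 fun y hy => ?_
    rw [Set.mem_singleton_iff.1 hy]
    have hc := hw x (mem_oddGen hx ho)
    set c := x * w * x⁻¹ * w⁻¹ with hc'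
    have hxc : ∀ j : ℕ, x ^ j * w * (x ^ j)⁻¹ = c ^ j * w := by
      intro j
      induction j with
      | zero => simp
      | succ j ih =>
        have h1 := mem_centralizer_iff.1 (hD hx) _ (pow_mem hc j)
        have h2 : x * c ^ j * x⁻¹ = c ^ j := by rw [← h1]; group
        calc x ^ (j + 1) * w * (x ^ (j + 1))⁻¹ = x * (x ^ j * w * (x ^ j)⁻¹) * x⁻¹ := by rw [pow_succ']; group
          _ = (x * c ^ j * x⁻¹) * (x * w * x⁻¹ * w⁻¹) * w := by rw [ih]; group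
          _ = c ^ (j + 1) * w := by rw [h2, ← hc', ← pow_succ]
    have h1 := hxc (orderOf x)
    rw [pow_orderOf_eq_one, inv_one, mul_one, one_mul] at h1
    have h2 : c ^ orderOf x = 1 := by
      have h3 : c ^ orderOf x * w = 1 * w := by rw [← h1, one_mul]
      exact mul_right_cancel h3
    have h3 : c = 1 := by
      obtain ⟨k, hk⟩ := ho
      have h4 : c * c = 1 := hsq c hc
      rw [hk, pow_succ, pow_mul, pow_two, h4, one_pow, one_mul] at h2
      exact h2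
    calc w * x = c⁻¹ * (x * w * x⁻¹ * w⁻¹) * w * x := by rw [h3] at hc'; rw [← hc', h3]; group
      _ = c⁻¹ * x * w := by group
      _ = x * w := by rw [h3]; group
  intro k hk
  exact (mem_centralizer_iff.1 (key hk) w rfl).symm

/-- **LEMMA N, pure form** -/
theorem core [Finite G] {W D T X lam : Subgroup G} (hWc : ∀ a ∈ W, ∀ b ∈ W, a * b = b * a)
    (hsq : ∀ a ∈ W, a * a = 1) (hXW : X ≤ normalizer (W : Set G)) (DW : D ≤ W) (XD : X ≤ centralizer (D : Set G))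
    (TX : T ≤ X) (hT : IsPGroup 2 T) (hodd : ¬ 2 ∣ T.relIndex X) (lamW : lam ≤ W)
    (comm : ∀ w ∈ lam, ∀ t ∈ T, t * w * t⁻¹ * w⁻¹ ∈ D)
    (inf : ∀ d : G, (∀ w ∈ lam, w ∉ D → InL T w d) → d = 1)
    (fix : ∀ w ∈ W, (∀ t ∈ T, t * w = w * t) → ∀ x ∈ X, x * w = w * x)
    (hP : ∀ v ∈ lam, v ∉ D → ∀ v' ∈ lam,
      v' ∈ closure {m : G | ∃ n ∈ X, n ∈ normalizer ((T ⊓ oddGen X : Subgroup G) : Set G) ∧ m = n * v * n⁻¹} ⊔
        cw W (oddGen X) D hWc ((oddGen_le X).trans hXW)) :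
    ∀ v' ∈ lam, ∀ x ∈ oddGen X, x * v' = v' * x := by
  have hTD : T ≤ centralizer (D : Set G) := TX.trans XD
  set U₀ := T ⊓ oddGen X with hU₀
  have hU₀W : U₀ ≤ normalizer (W : Set G) := inf_le_left.trans (TX.trans hXW)
  intro v' hv'
  -- `U₀` centralises `v'`
  have h1 : ∀ u ∈ U₀, u * v' = v' * u := by
    intro u hu
    have h2 : u * v' * u⁻¹ * v'⁻¹ = 1 := by
      refine inf _ fun v hv hvD => ?_
      obtain ⟨L, hLD, hL⟩ := exists_L hTD (comm v hv)
      have hvW := lamW hv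
      have h3 : closure {m : G | ∃ n ∈ X, n ∈ normalizer (U₀ : Set G) ∧ m = n * v * n⁻¹} ⊔
          cw W (oddGen X) D hWc ((oddGen_le X).trans hXW) ≤ cw W U₀ L hWc hU₀W := by
        refine sup_le ((closure_le _).2 ?_) ?_
        · rintro _ ⟨n, hn, hnU, rfl⟩
          refine ⟨cj_mem hXW hn hvW, fun a ha => ?_⟩
          have h4 : n⁻¹ * a * n ∈ U₀ := (mem_normalizer_iff''.1 hnU a).1 ha
          have h5 := comm v hv _ h4.1
          have h6 : InL T v (n⁻¹ * a * n * v * (n⁻¹ * a * n)⁻¹ * v⁻¹) := ⟨_, h4.1, rfl⟩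
          have h7 := mem_centralizer_iff.1 (XD hn) _ h5
          have e1 : a * (n * v * n⁻¹) * a⁻¹ * (n * v * n⁻¹)⁻¹ =
            n * (n⁻¹ * a * n * v * (n⁻¹ * a * n)⁻¹ * v⁻¹) * n⁻¹ := by group
          rw [e1, ← h7]
          have e2 : n⁻¹ * a * n * v * (n⁻¹ * a * n)⁻¹ * v⁻¹ * n * n⁻¹ =
            n⁻¹ * a * n * v * (n⁻¹ * a * n)⁻¹ * v⁻¹ := by group
          rw [e2]
          exact (hL _).2 h6
        · rintro w ⟨hw, hw'⟩
          refine ⟨hw, fun a ha => ?_⟩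
          have h4 := odd_cent XD (fun d hd => hsq d (DW hd)) hw' a ha.2
          have e1 : a * w * a⁻¹ * w⁻¹ = 1 := by rw [h4]; group
          rw [e1]
          exact one_mem _
      exact (hL _).1 ((h3 (hP v hv hvD v' hv')).2 u hu)
    calc u * v' = (u * v' * u⁻¹ * v'⁻¹) * (v' * u) := by group
      _ = v' * u := by rw [h2, one_mul]
  -- the trace
  have hTK : T ≤ normalizer (oddGen X : Set G) := TX.trans (le_normalizer_oddGen X)
  exact trace hWc hsq ((oddGen_le X).trans hXW) hT (TX.trans hXW) hTK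
    (odd_inf hTK TX (oddGen_le X) hodd) (fun w hw hf x hx => fix w hw hf x (oddGen_le X hx)) v' (lamW hv') h1

theorem syl_of [Finite G] {T X : Subgroup G} (hTX : T ≤ X) (hT : IsPGroup 2 T) (hodd : ¬ 2 ∣ T.relIndex X) :
    ChoiceSit.Syl T X := by
  have : Fact (Nat.Prime 2) := ⟨Nat.prime_two⟩
  refine ⟨hTX, hT, fun Q hQX hQ hTQ => le_antisymm ?_ hTQ⟩
  obtain ⟨k, hk⟩ := IsPGroup.iff_card.1 hQ
  have h1 : T.relIndex Q ∣ 2 ^ k := hk ▸ relIndex_dvd_card T Q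
  obtain ⟨j, _, hj⟩ := (Nat.dvd_prime_pow Nat.prime_two).1 h1
  have h2 : T.relIndex Q ∣ T.relIndex X := Dvd.intro _ (relIndex_mul_relIndex T Q X hTQ hQX)
  have h3 : j = 0 := by
    by_contra hne
    exact hodd ((dvd_pow_self 2 hne).trans (hj ▸ h2))
  rw [h3, pow_zero] at hj
  exact relIndex_eq_one.1 hj

/-! ### the lift -/

section lift

variable {T D X U lam : Subgroup G} {H : Type u} [Group H] {M : Type u} [Group M] [MulDistribMulAction H M]
  {π : X →* H} {p : U →* M} (s : Sec T D X U lam π p)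
include s

theorem Sec.cj_memU {x u : G} (hx : x ∈ X) (hu : u ∈ U) : x * u * x⁻¹ ∈ U := cj_mem s.XU hx hu

theorem Sec.act {x u : G} (hx : x ∈ X) (hu : u ∈ U) :
    p ⟨x * u * x⁻¹, s.cj_memU hx hu⟩ = π ⟨x, hx⟩ • p ⟨u, hu⟩ := s.eqv _ _ _ rfl

theorem Sec.act_eq {x u : G} (hx : x ∈ X) (hu : u ∈ U) :
    π ⟨x, hx⟩ • p ⟨u, hu⟩ = p ⟨u, hu⟩ ↔ x * u * x⁻¹ * u⁻¹ ∈ D := by
  rw [← s.act hx hu]
  constructor
  · intro h
    have h1 : p (⟨x * u * x⁻¹, s.cj_memU hx hu⟩ * ⟨u, hu⟩⁻¹) = 1 := by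
      rw [map_mul, map_inv, h, mul_inv_cancel]
    exact (s.ker _).1 h1
  · intro h
    have h1 : p (⟨x * u * x⁻¹, s.cj_memU hx hu⟩ * ⟨u, hu⟩⁻¹) = 1 := (s.ker _).2 h
    rw [map_mul, map_inv, mul_inv_eq_one] at h1
    exact h1

omit s in
theorem mem_oo {x : G} (hx : x ∈ oddGen X) : (⟨x, oddGen_le X hx⟩ : X) ∈ oo X := by
  have h1 : oddGen X ≤ (oo X).map X.subtype := by
    rw [oddGen_def, closure_le]
    rintro y ⟨hy, ho⟩
    refine ⟨⟨y, hy⟩, subset_closure ?_, rfl⟩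
    change Odd (orderOf (⟨y, hy⟩ : X))
    rwa [orderOf_mk]
  obtain ⟨y, hy, hyx⟩ := h1 hx
  have h2 : y = ⟨x, oddGen_le X hx⟩ := Subtype.ext hyx
  rwa [← h2]

omit s in
theorem mem_oddGen_of_oo {x : X} (hx : x ∈ oo X) : (x : G) ∈ oddGen X := by
  have h1 : oo X ≤ (oddGen X).comap X.subtype := by
    rw [oo, closure_le]
    intro y hy
    refine mem_oddGen y.2 ?_
    have h2 : Odd (orderOf y) := hy
    rwa [← orderOf_coe] at h2
  exact h1 hx

omit s in
theorem map_oo {A B : Type u} [Group A] [Finite A] [Group B] (f : A →* B) {x : A} (hx : x ∈ oo A) : f x ∈ oo B := by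
  have h1 : oo A ≤ (oo B).comap f := by
    rw [oo, closure_le]
    intro y hy
    refine subset_closure ?_
    have h2 : Odd (orderOf y) := hy
    exact h2.of_dvd_nat (orderOf_map_dvd f y)
  exact h1 hx

/-- the lift of `P2` -/
theorem Sec.lift [Finite G] (hT : IsPGroup 2 T) (hodd : ¬ 2 ∣ T.relIndex X) {W : Subgroup G} (UW : U ≤ W)
    (hWc : ∀ a ∈ W, ∀ b ∈ W, a * b = b * a) (hXW : X ≤ normalizer (W : Set G))
    (hfix : ∀ v ∈ lam, ∀ t ∈ T, t * v * t⁻¹ * v⁻¹ ∈ D)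
    (h2 : P2 ((T.subgroupOf X).map π) ((lam.subgroupOf U).map p)) {v v' : G} (hv : v ∈ lam) (hvD : v ∉ D)
    (hv' : v' ∈ lam) :
    v' ∈ closure {m : G | ∃ n ∈ X, n ∈ normalizer ((T ⊓ oddGen X : Subgroup G) : Set G) ∧ m = n * v * n⁻¹} ⊔
        cw W (oddGen X) D hWc ((oddGen_le X).trans hXW) := by
  set N₀ := cw W (oddGen X) D hWc ((oddGen_le X).trans hXW) with hN₀
  set A := closure {m : G | ∃ n ∈ X, n ∈ normalizer ((T ⊓ oddGen X : Subgroup G) : Set G) ∧ m = n * v * n⁻¹} with hA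
  have hDN : D ≤ N₀ := by
    intro d hd
    refine ⟨UW (s.DU hd), fun a ha => ?_⟩
    have h3 := mem_centralizer_iff.1 (s.XD (oddGen_le X ha)) d hd
    have e1 : a * d * a⁻¹ * d⁻¹ = 1 := by rw [← h3]; group
    rw [e1]
    exact one_mem _
  have hvU := s.lamU hv
  have hvU' := s.lamU hv'
  have hv1 : p ⟨v, hvU⟩ ≠ 1 := fun h => hvD ((s.ker _).1 h)
  have h3 := h2 (p ⟨v, hvU⟩) ⟨⟨v, hvU⟩, hv, rfl⟩ hv1 (p ⟨v', hvU'⟩) ⟨⟨v', hvU'⟩, hv', rfl⟩
  set Th := (T.subgroupOf X).map π with hTh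
  have h4 : closure {m : M | ∃ n ∈ normalizer ((Th ⊓ oo H : Subgroup H) : Set H), m = n • p ⟨v, hvU⟩} ⊔ odd H M ≤
      ((A ⊔ N₀).subgroupOf U).map p := by
    refine sup_le ((closure_le _).2 ?_) ?_
    · rintro _ ⟨n, hn, rfl⟩
      obtain ⟨x, rfl⟩ := s.surj n
      -- Frattini in `X`
      set X₁ : Subgroup X := (normalizer ((Th ⊓ oo H : Subgroup H) : Set H)).comap π with hX₁
      set L₁ : Subgroup X := (Th ⊓ oo H).comap π ⊓ oo X with hL₁
      set T₁ : Subgroup X := T.subgroupOf X with hT₁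
      have hT₁2 : IsPGroup 2 T₁ := hT.comap_of_injective _ X.subtype_injective
      have hTi : ¬ 2 ∣ T₁.index := hodd
      have hooN : (oo H).Normal := by
        refine ⟨fun a ha g => ?_⟩
        have h5 : oo H ≤ (oo H).comap (MulAut.conj g).toMonoidHom := by
          rw [oo, closure_le]
          intro y hy
          refine subset_closure ?_
          change Odd (orderOf ((MulAut.conj g).toMonoidHom y))
          rw [orderOf_injective _ (MulAut.conj g).injective y]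
          exact hy
        exact h5 ha
      have hooX : (oo X).Normal := by
        refine ⟨fun a ha g => ?_⟩
        have h5 : oo X ≤ (oo X).comap (MulAut.conj g).toMonoidHom := by
          rw [oo, closure_le]
          intro y hy
          refine subset_closure ?_
          change Odd (orderOf ((MulAut.conj g).toMonoidHom y))
          rw [orderOf_injective _ (MulAut.conj g).injective y]
          exact hy
        exact h5 ha
      have hThn : Th ≤ normalizer ((Th ⊓ oo H : Subgroup H) : Set H) :=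
        le_trans (le_inf le_normalizer (by
          have : normalizer ((oo H : Subgroup H) : Set H) = ⊤ := normalizer_eq_top_iff.2 hooN
          rw [this]; exact le_top)) inf_normalizer_le_normalizer_inf
      have hTX₁ : T₁ ≤ X₁ := fun t ht => hThn ⟨t, ht, rfl⟩
      have hL₁n : X₁ ≤ normalizer (L₁ : Set X) := by
        intro y hy
        refine mem_normalizer_iff.2 fun z => ?_
        have a1 : π (y * z * y⁻¹) = π y * π z * (π y)⁻¹ := by rw [map_mul, map_mul, map_inv]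
        have a2 := mem_normalizer_iff.1 (show π y ∈ normalizer ((Th ⊓ oo H : Subgroup H) : Set H) from hy) (π z)
        have a3 : z ∈ oo X ↔ y * z * y⁻¹ ∈ oo X := by
          have : y ∈ normalizer ((oo X : Subgroup X) : Set X) := by
            rw [normalizer_eq_top_iff.2 hooX]; exact mem_top _
          exact mem_normalizer_iff.1 this z
        rw [hL₁, mem_inf, mem_inf, mem_comap, mem_comap, a1, a2, a3]
      have hodd₁ : ¬ 2 ∣ T₁.relIndex X₁ := fun h5 => hTi (h5.trans (relIndex_dvd_index_of_le hTX₁))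
      have hxX₁ : x⁻¹ ∈ X₁ := inv_mem (show x ∈ X₁ from hn)
      obtain ⟨l, hl, m, hm, hlm⟩ := Cfsg.Agent.MinSimple.LemXPerm.exists_frattini hTX₁ hT₁2 hodd₁ hL₁n hxX₁
      have hTL : T₁ ⊓ L₁ = T₁ ⊓ oo X := by
        apply le_antisymm
        · exact inf_le_inf_left _ inf_le_right
        · rintro t ⟨ht, hto⟩
          exact ⟨ht, ⟨⟨t, ht, rfl⟩, map_oo π hto⟩, hto⟩
      rw [hTL] at hm
      have hx : x = m⁻¹ * l⁻¹ := by rw [← inv_inv x, hlm, mul_inv_rev]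
      -- `π l` fixes `p v`
      have hlv : π l⁻¹ • p ⟨v, hvU⟩ = p ⟨v, hvU⟩ := by
        have hl' : π l⁻¹ ∈ Th ⊓ oo H := by
          rw [map_inv]; exact inv_mem (show π l ∈ Th ⊓ oo H from hl.1)
        obtain ⟨t, ht, htl⟩ := hl'.1
        rw [← htl]
        exact (s.act_eq t.2 hvU).2 (hfix v hv t ht)
      rw [hx, map_mul, mul_smul, hlv]
      have hm' : (m⁻¹ : X) ∈ normalizer ((T₁ ⊓ oo X : Subgroup X) : Set X) := inv_mem hm.2
      refine ⟨⟨(m⁻¹ : X) * v * ((m⁻¹ : X) : G)⁻¹, s.cj_memU (m⁻¹).2 hvU⟩, ?_, s.act (m⁻¹).2 hvU⟩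
      refine mem_sup_left (subset_closure ⟨_, (m⁻¹).2, ?_, rfl⟩)
      have key : ∀ c : X, c ∈ normalizer ((T₁ ⊓ oo X : Subgroup X) : Set X) →
          ∀ y ∈ T ⊓ oddGen X, (c : G) * y * (c : G)⁻¹ ∈ T ⊓ oddGen X := by
        intro c hc y hy
        have h6 := (mem_normalizer_iff.1 hc ⟨y, s.TX hy.1⟩).1 ⟨hy.1, mem_oo hy.2⟩
        exact ⟨h6.1, mem_oddGen_of_oo h6.2⟩
      refine mem_normalizer_iff.2 fun y => ⟨key _ hm' y, fun hy => ?_⟩
      have h6 := key _ (inv_mem hm') _ hy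
      have e : ((m⁻¹⁻¹ : X) : G) * (((m⁻¹ : X) : G) * y * ((m⁻¹ : X) : G)⁻¹) * ((m⁻¹⁻¹ : X) : G)⁻¹ = y := by
        rw [InvMemClass.coe_inv, InvMemClass.coe_inv]; group
      rwa [e] at h6
    · intro m hm
      obtain ⟨⟨u, hu⟩, rfl⟩ := s.psurj m
      refine ⟨⟨u, hu⟩, mem_sup_right ⟨UW hu, fun k hk => ?_⟩, rfl⟩
      have hkX := oddGen_le X hk
      refine (s.act_eq hkX hu).1 ?_
      have h5 : oo X ≤ ((MulAction.stabilizer H (p ⟨u, hu⟩))).comap π := by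
        rw [oo, closure_le]
        intro y hy
        change π y • p ⟨u, hu⟩ = p ⟨u, hu⟩
        refine (mem_odd.1 hm) (π y) ?_
        have h6 : Odd (orderOf y) := hy
        exact h6.of_dvd_nat (orderOf_map_dvd π y)
      exact h5 (mem_oo hk)
  obtain ⟨u, hu, hup⟩ := h4 h3
  have h5 : p (u⁻¹ * ⟨v', hvU'⟩) = 1 := by rw [map_mul, map_inv, hup, inv_mul_cancel]
  have h6 : (u : G)⁻¹ * v' ∈ A ⊔ N₀ := mem_sup_right (hDN ((s.ker _).1 h5))
  have h7 : (u : G) * ((u : G)⁻¹ * v') = v' := by group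
  rw [← h7]
  exact mul_mem hu h6

/-- **LEMMA N** -/
theorem Sec.false_of [Finite G] {B Y : Subgroup H} (ab : Abs ((T.subgroupOf X).map π) B Y ((lam.subgroupOf U).map p))
    (h2 : P2 ((T.subgroupOf X).map π) ((lam.subgroupOf U).map p)) (hT : IsPGroup 2 T) (hodd : ¬ 2 ∣ T.relIndex X)
    {W : Subgroup G} (UW : U ≤ W) (hWc : ∀ a ∈ W, ∀ b ∈ W, a * b = b * a) (hsq : ∀ a ∈ W, a * a = 1)
    (hXW : X ≤ normalizer (W : Set G)) (hfix : ∀ v ∈ lam, ∀ t ∈ T, t * v * t⁻¹ * v⁻¹ ∈ D)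
    (inf : ∀ d : G, (∀ w ∈ lam, w ∉ D → InL T w d) → d = 1)
    (fix : ∀ w ∈ W, (∀ t ∈ T, t * w = w * t) → ∀ x ∈ X, x * w = w * x) : False := by
  have h1 := core hWc hsq hXW (s.DU.trans UW) s.XD s.TX hT hodd (s.lamU.trans UW) hfix inf fix
    fun v hv hvD v' hv' => s.lift hT hodd UW hWc hXW hfix h2 hv hvD hv'
  -- some `v ∈ lam \ D`
  have h3 : ∃ v ∈ (lam.subgroupOf U).map p, v ≠ 1 := by
    by_contra hc
    push Not at hc
    have h4 : Nat.card ((lam.subgroupOf U).map p : Subgroup M) ≤ 1 := by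
      have h5 : (lam.subgroupOf U).map p = ⊥ := (eq_bot_iff_forall _).2 hc
      rw [h5, card_bot]
    have h6 := ab.four
    omega
  obtain ⟨_, ⟨⟨v, hvU⟩, hv, rfl⟩, hv1⟩ := h3
  have hv' : v ∈ lam := hv
  apply ab.Yne
  rw [eq_top_iff]
  intro h _
  refine (ab.stab _ ⟨⟨v, hvU⟩, hv, rfl⟩ hv1 h).1 ?_
  obtain ⟨x, rfl⟩ := s.surj h
  have h5 : oddGen X ⊔ T = X := EZero.oddGen_sup_syl (syl_of s.TX hT hodd)
  have h6 : X ≤ ((MulAction.stabilizer H (p ⟨v, hvU⟩)).comap π).map X.subtype := by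
    refine h5.symm.le.trans (sup_le ?_ ?_)
    · intro k hk
      refine ⟨⟨k, oddGen_le X hk⟩, (s.act_eq (oddGen_le X hk) hvU).2 ?_, rfl⟩
      have e1 : k * v * k⁻¹ * v⁻¹ = 1 := by rw [h1 v hv' k hk]; group
      rw [e1]
      exact one_mem _
    · intro t ht
      exact ⟨⟨t, s.TX ht⟩, (s.act_eq (s.TX ht) hvU).2 (hfix v hv' t ht), rfl⟩
  obtain ⟨y, hy, hyx⟩ := h6 x.2
  have h7 : y = x := Subtype.ext hyx
  rw [← h7]
  exact hy

end lift

end Cfsg.Agent.Omega.NO3b.EndX
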