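import Cfsg.Agent.Omega.NO3b.EndX.Sec
import Cfsg.Agent.Omega.NO3b.EndX.AbsP
import Cfsg.Agent.Omega.NO3b.Closed.Strong

/-!
# The exact end of NotFF (v2): normal subgroups of odd order (helper379, on #22122, #22039 (3), (4))

`H = X / C_X(U / D)`, `M = U / D`, `lam`, the labels `L(v) = [v, T]` with intersection `1`.

* `OddF H lam` : a normal subgroup of odd order of `H` centralises `⋂ ⟨v^H⟩` (`1 ≠ v ∈ lam`);
* `Sec.oddF` : `OddF` from the labels and the strong fix;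
* `Abs.oddFree` : `Abs` and `OddF` give `OddFree H` (`M = ⟨v^H⟩ C_M(O²(H))` for all `v`);
* **`Sec.oddFree`** : `OddFree H` from `Sec`, `Abs`, the labels and the strong fix;
* **`Sec.oddFree_of_out`** : the same over `Out`.
-/

set_option autoImplicit false

namespace Cfsg.Agent.Omega.NO3b.EndX

open Subgroup Cfsg Cfsg.Agent.ZN Cfsg.Agent.ZN.ChoiceBase Cfsg.Agent.ZN.ChoiceSit
open Cfsg.Agent.Omega.NO3b.EZero (cl)
open Cfsg.Agent.Omega.ML.MinFrame Cfsg.Agent.Omega.NO3b.ClosedPt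
open Cfsg.Agent.ClassTwoFusion.Quad
open Cfsg.Agent.MinSimple.VModule (oddGen)
open Cfsg.Agent.Omega.ML.Final (MLK)

universe u v

/-- a normal subgroup of odd order centralises the intersection of the `⟨v^H⟩`, `1 ≠ v ∈ lam` -/
def OddF (H : Type u) [Group H] {M : Type v} [Group M] [MulDistribMulAction H M] (lam : Subgroup M) : Prop :=
  ∀ F : Subgroup H, F.Normal → Odd (Nat.card F) → ∀ m : M,
    (∀ v ∈ lam, v ≠ 1 → m ∈ orb (⊤ : Subgroup H) v) → ∀ f ∈ F, f • m = m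

section

variable {G : Type u} [Group G] {T D X U lam : Subgroup G} {H : Type u} [Group H] {M : Type u} [Group M]
  [MulDistribMulAction H M] {π : X →* H} {p : U →* M}

theorem Sec.conj_mem (s : Sec T D X U lam π p) {x u : G} (hx : x ∈ X) (hu : u ∈ U) : x * u * x⁻¹ ∈ U :=
  (mem_normalizer_iff.1 (s.XU hx) u).1 hu

theorem Sec.p_conj (s : Sec T D X U lam π p) (x : X) (u : U) :
    p ⟨x * u * (x : G)⁻¹, s.conj_mem x.2 u.2⟩ = π x • p u := s.eqv x u _ rfl

/-- elements of the kernel of `π` act trivially on `U / D` -/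
theorem Sec.comm_mem (s : Sec T D X U lam π p) {x : X} (hx : π x = 1) {u : G} (hu : u ∈ U) :
    (x : G) * u * (x : G)⁻¹ * u⁻¹ ∈ D := by
  have h1 := s.p_conj x ⟨u, hu⟩
  rw [hx, one_smul] at h1
  have h2 : p (⟨x * u * (x : G)⁻¹, s.conj_mem x.2 hu⟩ * (⟨u, hu⟩ : U)⁻¹) = 1 := by
    rw [map_mul, map_inv, h1, mul_inv_cancel]
  exact (s.ker _).1 h2

/-- **`OddF`** from the labels and the strong fix -/
theorem Sec.oddF [Finite G] (s : Sec T D X U lam π p) (two : IsPGroup 2 T) (comm : U ≤ centralizer (U : Set G))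
    (com : ∀ v ∈ lam, ∀ t ∈ T, t * v * t⁻¹ * v⁻¹ ∈ D)
    (lab : ∀ v ∈ lam, v ∉ D → ∀ c ∈ X, c * v * c⁻¹ * v⁻¹ ∈ D → InL T v (c * v * c⁻¹ * v⁻¹))
    (inf : ∀ d : G, (∀ w ∈ lam, w ∉ D → InL T w d) → d = 1)
    (fix : ∀ Y ≤ X, T ≤ normalizer (Y : Set G) → ∀ w ∈ U, (∀ t ∈ T ⊓ Y, t * w = w * t) → ∀ y ∈ Y, y * w = w * y) :
    OddF H ((lam.subgroupOf U).map p) := by
  intro F hF hodd m hm f hf
  have hTD : T ≤ centralizer (D : Set G) := s.TX.trans s.XD
  -- the preimage of `F`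
  set Y : Subgroup G := (F.comap π).map X.subtype with hY
  have hYX : Y ≤ X := by
    rintro _ ⟨x, -, rfl⟩
    exact x.2
  have memY : ∀ x : X, (x : G) ∈ Y ↔ π x ∈ F := by
    intro x
    constructor
    · rintro ⟨x', hx', he⟩
      have : x' = x := Subtype.ext he
      rw [← this]
      exact hx'
    · intro h
      exact ⟨x, h, rfl⟩
  have hTY : T ≤ normalizer (Y : Set G) := by
    refine le_normalizer_of fun t ht y hy => ?_
    have h1 : π ⟨y, hYX hy⟩ ∈ F := (memY ⟨y, hYX hy⟩).1 hy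
    have h2 : π (⟨t, s.TX ht⟩ * ⟨y, hYX hy⟩ * ⟨t, s.TX ht⟩⁻¹) ∈ F := by
      rw [map_mul, map_mul, map_inv]
      exact hF.conj_mem _ h1 _
    exact (memY (⟨t, s.TX ht⟩ * ⟨y, hYX hy⟩ * ⟨t, s.TX ht⟩⁻¹)).2 h2
  -- `T ⊓ Y` is in the kernel
  have hker : ∀ t (ht : t ∈ T ⊓ Y), π ⟨t, s.TX ht.1⟩ = 1 := by
    intro t ht
    have h1 : π ⟨t, s.TX ht.1⟩ ∈ F := (memY ⟨t, s.TX ht.1⟩).1 ht.2
    obtain ⟨k, hk⟩ := two ⟨t, ht.1⟩
    have h2 : t ^ 2 ^ k = 1 := congrArg Subtype.val hk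
    have h3 : (π ⟨t, s.TX ht.1⟩) ^ 2 ^ k = 1 := by
      rw [← map_pow]
      have : (⟨t, s.TX ht.1⟩ : X) ^ 2 ^ k = 1 := Subtype.ext h2
      rw [this, map_one]
    have h4 : orderOf (π ⟨t, s.TX ht.1⟩) ∣ 2 ^ k := orderOf_dvd_of_pow_eq_one h3
    have h5 : orderOf (π ⟨t, s.TX ht.1⟩) ∣ Nat.card F := F.orderOf_dvd_natCard h1
    have h6 : Nat.Coprime (2 ^ k) (Nat.card F) := (Nat.coprime_two_left.2 hodd).pow_left k
    have h7 : orderOf (π ⟨t, s.TX ht.1⟩) = 1 := Nat.eq_one_of_dvd_coprimes h6 h4 h5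
    exact orderOf_eq_one_iff.1 h7
  -- `m = p w`
  obtain ⟨w, rfl⟩ := s.psurj m
  -- `T ⊓ Y` centralises `w`
  have hw : ∀ t ∈ T ⊓ Y, t * (w : G) = w * t := by
    intro t ht
    have htD : ∀ u ∈ U, t * u * t⁻¹ * u⁻¹ ∈ D := fun u hu => s.comm_mem (hker t ht) hu
    have h1 : t * (w : G) * t⁻¹ * (w : G)⁻¹ = 1 := by
      refine inf _ fun v hv hvD => ?_
      obtain ⟨L, hLD, hL⟩ := exists_L hTD (com v hv)
      rw [← hL]
      -- the homomorphism `u ↦ [t, u]`
      have hmul : ∀ a ∈ U, ∀ b ∈ U, t * (a * b) * t⁻¹ * (a * b)⁻¹ =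
          (t * a * t⁻¹ * a⁻¹) * (t * b * t⁻¹ * b⁻¹) := by
        intro a ha b hb
        have h2 : (t * b * t⁻¹ * b⁻¹) * a = a * (t * b * t⁻¹ * b⁻¹) :=
          (mem_centralizer_iff.1 (comm (s.DU (htD b hb))) a ha).symm
        calc t * (a * b) * t⁻¹ * (a * b)⁻¹ = (t * a * t⁻¹ * a⁻¹) * (a * (t * b * t⁻¹ * b⁻¹)) * a⁻¹ := by group
          _ = (t * a * t⁻¹ * a⁻¹) * ((t * b * t⁻¹ * b⁻¹) * a) * a⁻¹ := by rw [h2]
          _ = _ := by group
      have hD1 : ∀ d ∈ D, t * d * t⁻¹ * d⁻¹ = 1 := by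
        intro d hd
        rw [← mem_centralizer_iff.1 (hTD ht.1) d hd]
        group
      let N : Subgroup M :=
        { carrier := {m | ∀ u : U, p u = m → t * (u : G) * t⁻¹ * (u : G)⁻¹ ∈ L}
          one_mem' := by
            intro u hu
            rw [hD1 _ ((s.ker u).1 hu)]
            exact one_mem _
          mul_mem' := by
            intro a b ha hb u hu
            obtain ⟨u₁, h₁⟩ := s.psurj a
            have h₂ : p (u₁⁻¹ * u) = b := by
              rw [map_mul, map_inv, h₁, hu]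
              group
            have h3 := hmul u₁ u₁.2 (u₁⁻¹ * u : U) (u₁⁻¹ * u : U).2
            have h4 : (u₁ : G) * ((u₁⁻¹ * u : U) : G) = u := by
              rw [Subgroup.coe_mul, Subgroup.coe_inv]
              group
            rw [h4] at h3
            rw [h3]
            exact mul_mem (ha u₁ h₁) (hb _ h₂)
          inv_mem' := by
            intro a ha u hu
            have h₂ : p u⁻¹ = a := by rw [map_inv, hu, inv_inv]
            have h3 := hmul u u.2 (u⁻¹ : U) (u⁻¹ : U).2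
            have h4 : (u : G) * ((u⁻¹ : U) : G) = 1 := by
              rw [Subgroup.coe_inv]
              group
            rw [h4] at h3
            have h5 : t * 1 * t⁻¹ * 1⁻¹ = 1 := by group
            rw [h5] at h3
            have h6 := ha _ h₂
            have h7 : t * (u : G) * t⁻¹ * (u : G)⁻¹ =
                (t * ((u⁻¹ : U) : G) * t⁻¹ * ((u⁻¹ : U) : G)⁻¹)⁻¹ := eq_inv_of_mul_eq_one_left h3.symm
            rw [h7]
            exact inv_mem h6 }
      have hvU : v ∈ U := s.lamU hv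
      have hpv : p ⟨v, hvU⟩ ∈ (lam.subgroupOf U).map p := ⟨⟨v, hvU⟩, hv, rfl⟩
      have hpv1 : p ⟨v, hvU⟩ ≠ 1 := fun h => hvD ((s.ker ⟨v, hvU⟩).1 h)
      have h3 := hm _ hpv hpv1
      have h4 : orb (⊤ : Subgroup H) (p ⟨v, hvU⟩) ≤ N := by
        refine orb_le fun g _ => ?_
        obtain ⟨x, rfl⟩ := s.surj g
        intro u hu
        -- `u = (x v x⁻¹) d`
        set a : U := ⟨x * v * (x : G)⁻¹, s.conj_mem x.2 hvU⟩ with ha
        have hpa : p a = π x • p ⟨v, hvU⟩ := s.p_conj x ⟨v, hvU⟩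
        have hd : ((a⁻¹ * u : U) : G) ∈ D := by
          refine (s.ker _).1 ?_
          rw [map_mul, map_inv, hpa, hu, inv_mul_cancel]
        have h5 := hmul a a.2 (a⁻¹ * u : U) (a⁻¹ * u : U).2
        have h6 : (a : G) * ((a⁻¹ * u : U) : G) = u := by
          rw [Subgroup.coe_mul, Subgroup.coe_inv]
          group
        rw [h6, hD1 _ hd, mul_one] at h5
        rw [h5]
        -- `[t, x v x⁻¹] = [x⁻¹ t x, v]`
        set c : X := x⁻¹ * ⟨t, s.TX ht.1⟩ * x with hc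
        have hc1 : π c = 1 := by
          rw [hc, map_mul, map_mul, map_inv, hker t ht]
          group
        have hcD : (c : G) * v * (c : G)⁻¹ * v⁻¹ ∈ D := s.comm_mem hc1 hvU
        have hcL : (c : G) * v * (c : G)⁻¹ * v⁻¹ ∈ L := (hL _).2 (lab v hv hvD c c.2 hcD)
        have h7 : (x : G) * ((c : G) * v * (c : G)⁻¹ * v⁻¹) * (x : G)⁻¹ = (c : G) * v * (c : G)⁻¹ * v⁻¹ := by
          rw [← mem_centralizer_iff.1 (s.XD x.2) _ hcD]
          group
        have h8 : t * (a : G) * t⁻¹ * (a : G)⁻¹ = (c : G) * v * (c : G)⁻¹ * v⁻¹ := by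
          rw [← h7]
          have e1 : (c : G) = (x : G)⁻¹ * t * x := by rw [hc]; rfl
          have e2 : (a : G) = x * v * (x : G)⁻¹ := rfl
          rw [e1, e2]
          group
        rw [h8]
        exact hcL
      exact h4 h3 w rfl
    have h2 : t * (w : G) = (t * (w : G) * t⁻¹ * (w : G)⁻¹) * (w * t) := by group
    rw [h2, h1, one_mul]
  -- conclusion
  obtain ⟨y, rfl⟩ := s.surj f
  have hy : (y : G) ∈ Y := (memY y).2 hf
  have h1 := fix Y hYX hTY w w.2 hw y hy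
  have h2 := s.p_conj y w
  rw [← h2]
  congr 1
  refine Subtype.ext ?_
  change (y : G) * w * (y : G)⁻¹ = w
  rw [h1]
  group

end

section

variable {H : Type u} [Group H] {M : Type v} [Group M] [MulDistribMulAction H M] {T B Y : Subgroup H}
  {lam : Subgroup M}

/-- **`Abs` and `OddF` give `OddFree`** -/
theorem Abs.oddFree [Finite H] [Finite M] (hML : MLK.{u, v}) (hK : IsKGroup H) (h : Abs T B Y lam)
    (hF : OddF H lam) : OddFree H := by
  intro F hFn hFo
  have hA := h.toABS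
  have hKn := hA.K_normal
  -- `F` centralises `[M, K]`
  have fix : ∀ k : H, k ∈ oddGen (⊤ : Subgroup H) → ∀ m : M, ∀ f ∈ F, f • ((k • m) * m⁻¹) = (k • m) * m⁻¹ := by
    intro k hk m
    refine hF F hFn hFo _ fun v hv hv1 => ?_
    have h1 : m ∈ hA.CK ⊔ orb (⊤ : Subgroup H) v := by
      rw [hA.sup_top hML hK hv hv1]
      exact mem_top m
    have hn := hA.norm hA.CK
    obtain ⟨c, hc, u, hu, rfl⟩ := mem_sup_of_normal_left.1 h1
    have h2 : k • c = c := hc k hk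
    have h3 : (k • (c * u)) * (c * u)⁻¹ = (k • u) * u⁻¹ := by
      rw [smul_mul', h2, hA.comm c (k • u), hA.comm c u]
      group
    rw [h3]
    exact mul_mem (ABS.orb_inv v k hu) (inv_mem hu)
  rw [eq_bot_iff, ← hA.ker_bot]
  intro f hf m k hk
  -- `k • [m, f] = [m, f]`
  set c : M := m⁻¹ * (k • m) with hc
  have hkm : k • m = m * c := by rw [hc]; group
  have hc' : c = (k • m) * m⁻¹ := by rw [hc, hA.comm]
  set f' : H := k * f * k⁻¹ with hf'
  have hf'F : f' ∈ F := hFn.conj_mem f hf k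
  have hfc : ∀ g ∈ F, g • c = c := fun g hg => by rw [hc']; exact fix k hk m g hg
  have h1 : k • ((f • m) * m⁻¹) = (f' • m) * m⁻¹ := by
    have e1 : k • f • m = f' • k • m := by
      rw [hf', smul_smul, smul_smul]
      congr 1
      group
    rw [smul_mul', smul_inv', e1, hkm, smul_mul', hfc f' hf'F]
    group
  -- `z = [m, f'] [m, f]⁻¹` is fixed by `F`
  set z : M := (f' • m) * (f • m)⁻¹ with hz
  have hz' : z = (k • ((f • m) * m⁻¹)) * ((f • m) * m⁻¹)⁻¹ := by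
    rw [h1, hz]
    group
  have hzF : ∀ g ∈ F, g • z = z := fun g hg => by rw [hz']; exact fix k hk _ g hg
  set g : H := f⁻¹ * f' with hg
  have hgF : g ∈ F := mul_mem (inv_mem hf) hf'F
  have h2 : g • m = z * m := by
    have e1 : f' • m = z * (f • m) := by rw [hz]; group
    have e2 : g • m = f⁻¹ • f' • m := by rw [hg, mul_smul]
    rw [e2, e1, smul_mul', hzF _ (inv_mem hf), inv_smul_smul]
  have h3 : ∀ n : ℕ, (g ^ n) • m = z ^ n * m := by
    intro n
    induction n with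
    | zero => rw [pow_zero, pow_zero, one_smul, one_mul]
    | succ n ih =>
      rw [pow_succ, mul_smul, h2, smul_mul', ih, hzF _ (pow_mem hgF n), ← mul_assoc, ← pow_succ']
  have h4 := h3 (orderOf g)
  rw [pow_orderOf_eq_one, one_smul] at h4
  have h5 : z ^ orderOf g = 1 := (mul_eq_right.1 h4.symm)
  have h6 : Odd (orderOf g) := Odd.of_dvd_nat hFo (F.orderOf_dvd_natCard hgF)
  obtain ⟨j, hj⟩ := h6
  have h7 : z = 1 := by
    rw [hj, pow_succ, pow_mul, pow_two, hA.sq, one_pow, one_mul] at h5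
    exact h5
  rw [h1, ← mul_inv_eq_one]
  have h8 : (f' • m) * m⁻¹ * ((f • m) * m⁻¹)⁻¹ = z := by rw [hz]; group
  rw [h8, h7]

end

section

variable {G : Type u} [Group G] {T D X U lam : Subgroup G} {H : Type u} [Group H] {M : Type u} [Group M]
  [MulDistribMulAction H M] {π : X →* H} {p : U →* M}

/-- **`OddFree H`** from the labels and the strong fix -/
theorem Sec.oddFree [Finite G] [Finite H] [Finite M] (hML : MLK.{u, u}) (hK : IsKGroup H)
    (s : Sec T D X U lam π p) {B Y : Subgroup H} (h : Abs ((T.subgroupOf X).map π) B Y ((lam.subgroupOf U).map p))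
    (two : IsPGroup 2 T) (comm : U ≤ centralizer (U : Set G))
    (com : ∀ v ∈ lam, ∀ t ∈ T, t * v * t⁻¹ * v⁻¹ ∈ D)
    (lab : ∀ v ∈ lam, v ∉ D → ∀ c ∈ X, c * v * c⁻¹ * v⁻¹ ∈ D → InL T v (c * v * c⁻¹ * v⁻¹))
    (inf : ∀ d : G, (∀ w ∈ lam, w ∉ D → InL T w d) → d = 1)
    (fix : ∀ Y ≤ X, T ≤ normalizer (Y : Set G) → ∀ w ∈ U, (∀ t ∈ T ⊓ Y, t * w = w * t) → ∀ y ∈ Y, y * w = w * y) :
    OddFree H :=
  h.oddFree hML hK (s.oddF two comm com lab inf fix)

/-- **`OddFree H`** over `Out` -/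
theorem Sec.oddFree_of_out [Finite G] {S Z V D B lam T₀ X U : Subgroup G} {H : Type u} [Group H] [Finite H]
    {M : Type u} [Group M] [Finite M] [MulDistribMulAction H M] {π : X →* H} {p : U →* M} {e : End S Z V D B}
    (o : Out e lam T₀) (hs : FixS S Z V) (hML : MLK.{u, u}) (hK : IsKGroup H)
    (s : Sec (S ⊓ centralizer (D : Set G)) D X U lam π p) (hU : U ≤ cl V (centralizer (Z : Set G)))
    {B' Y : Subgroup H} (h : Abs (((S ⊓ centralizer (D : Set G)).subgroupOf X).map π) B' Y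
      ((lam.subgroupOf U).map p)) : OddFree H := by
  have hfl := e.flag
  refine s.oddFree hML hK h (hfl.two.to_le inf_le_left) ?_ (fun v hv t ht => o.good.comm v hv t ht) ?_ o.good.inf
    fun Y hY hT w hw hf => e.clo.toRR.tr0 hfl hs (hY.trans s.XD) hT w (hU hw) hf
  · exact fun a ha => mem_centralizer_iff.2 fun b hb => hfl.Wcomm b (hU hb) a (hU ha)
  · intro v hv hvD c hc hcD
    set T := S ⊓ centralizer (D : Set G) with hT
    have hvV := o.good.leV hv
    have hcom : ∀ t ∈ T, t * v * t⁻¹ * v⁻¹ ∈ D := fun t ht => o.good.comm v hv t ht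
    have h1 : c ∈ sv D v := ⟨s.XD hc, hcD⟩
    rw [e.clo.c2 hfl hvV hcom, e.clo.cent_plus hfl hvV hcom] at h1
    obtain ⟨c₀, hc₀, t, ht, rfl⟩ := sup_eq_mul (norm_cent (norm_sup (inf_le_right : T ≤ _) hcom)) h1
    refine ⟨t, ht, ?_⟩
    have h2 := mem_centralizer_iff.1 hc₀
    have h3 := h2 v ((le_sup_right : zpowers v ≤ D ⊔ zpowers v) (mem_zpowers v))
    have h4 := h2 _ ((le_sup_left : D ≤ D ⊔ zpowers v) (hcom t ht))
    calc t * v * t⁻¹ * v⁻¹ = (t * v * t⁻¹ * v⁻¹) * c₀ * v * c₀⁻¹ * v⁻¹ := by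
            rw [mul_assoc (t * v * t⁻¹ * v⁻¹) c₀ v, ← h3]
            group
      _ = c₀ * t * v * (c₀ * t)⁻¹ * v⁻¹ := by
            rw [h4]
            group

end

end Cfsg.Agent.Omega.NO3b.EndX
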