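import Cfsg.Agent.Omega.NO3b.EndX.AbsP

/-!
# The exact end of NotFF (v2): normal subgroups of odd order

**`Abs.odd_bot`** : if every normal odd subgroup `F` centralises the intersection of the `U_v` (379's `OddF`), then
`H` has no normal subgroup `≠ 1` of odd order (`OddFree H`).
-/

set_option autoImplicit false

namespace Cfsg.Agent.Omega.NO3b.EndX

open Subgroup Cfsg Cfsg.Agent.ZN Cfsg.Agent.ClassTwoFusion.Quad Cfsg.Agent.Omega.ML.MinFrame
open Cfsg.Agent.Omega.ML.Final (MLK)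
open Cfsg.Agent.MinSimple.VModule

universe u v

/-- no normal subgroups of odd order -/
theorem Abs.odd_bot {H : Type u} [Group H] [Finite H] {M : Type v} [Group M] [Finite M] [MulDistribMulAction H M]
    {T B Y : Subgroup H} {lam : Subgroup M} (hML : MLK.{u, v}) (hK : IsKGroup H) (h : Abs T B Y lam)
    {F : Subgroup H} (hF : F.Normal)
    (hc : ∀ m : M, (∀ v ∈ lam, v ≠ 1 → m ∈ orb (⊤ : Subgroup H) v) → ∀ f ∈ F, f • m = m) : F = ⊥ := by
  obtain ⟨N, iN, fN, aN, π, hsurj, hsm, hone, hne, hir⟩ := h.toABS.out hML hK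
  -- `[M, K] ≤ U_v`
  have key : ∀ k ∈ oddGen (⊤ : Subgroup H), ∀ m : M, ∀ v ∈ lam, v ≠ 1 → (k • m) * m⁻¹ ∈ orb (⊤ : Subgroup H) v := by
    intro k hk m v hv hv1
    have htop := h.toABS.sup_top hML hK hv hv1
    have n1 := h.toABS.norm (orb (⊤ : Subgroup H) v)
    have hm : m ∈ h.toABS.CK ⊔ orb (⊤ : Subgroup H) v := by rw [htop]; exact mem_top m
    obtain ⟨c, hc', y, hy, rfl⟩ := mem_sup_of_normal_right.1 hm
    have hck : k • c = c := hc' k hk
    have e1 : (k • (c * y)) * (c * y)⁻¹ = (k • y) * y⁻¹ := by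
      rw [smul_mul', hck, mul_inv_rev, mul_assoc, ← mul_assoc (k • y), h.toABS.comm ((k • y) * y⁻¹) c⁻¹,
        mul_inv_cancel_left]
    rw [e1]
    exact (orb (⊤ : Subgroup H) v).mul_mem (ABS.orb_inv v k hy) ((orb (⊤ : Subgroup H) v).inv_mem hy)
  have hfk : ∀ k ∈ oddGen (⊤ : Subgroup H), ∀ n : N, (k • n) * n⁻¹ ∈ cv N (F : Set H) := by
    intro k hk n f hf
    obtain ⟨m, rfl⟩ := hsurj n
    rw [← hsm, ← map_inv, ← map_mul, ← hsm, hc _ (fun v hv hv1 => key k hk m v hv hv1) f hf]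
  rcases hir.irr (cv N (F : Set H)) (fun g w hw f hf => by
    have h1 : g⁻¹ * f * g ∈ F := by
      have := hF.conj_mem f hf g⁻¹
      rwa [inv_inv] at this
    have h2 := hw _ h1
    rw [mul_smul, mul_smul, inv_smul_eq_iff] at h2
    exact h2) with h1 | h1
  · exfalso
    have h2 : oddGen (⊤ : Subgroup H) = ⊥ := by
      rw [eq_bot_iff]
      intro k hk
      refine mem_bot.2 (hir.faith k fun n => ?_)
      have h3 := hfk k hk n
      rw [h1, mem_bot] at h3
      exact mul_inv_eq_one.1 h3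
    have h3 := h.toABS.K_sup
    rw [h2, bot_sup_eq] at h3
    exact h.Yne (top_unique (h3.symm.le.trans h.TY))
  · rw [eq_bot_iff]
    intro f hf
    refine mem_bot.2 (hir.faith f fun n => ?_)
    have h3 : n ∈ cv N (F : Set H) := by rw [h1]; exact mem_top n
    exact h3 f hf

end Cfsg.Agent.Omega.NO3b.EndX
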