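import Cfsg.Agent.Omega.NO3b.EndX.Def
import Cfsg.Agent.Omega.ML.Ex.RedDef

/-!
# The exact end of NotFF (v2), P6b, part A: the input of THEOREM RED (helper907)

`AbsI T B Y lam`, `T` in at least two maximal subgroups, no normal subgroup of odd order, (ML): for `1 ≠ v ∈ lam` some
`B₁ ≤ B` is an exact atom with `|B₁| ≥ 4`, and `Mn T B₁ v` (`AbsI.mn`).
-/

set_option autoImplicit false

namespace Cfsg.Agent.Omega.NO3b.EndX

open Subgroup Cfsg Cfsg.Agent.ZN Cfsg.Agent.ClassTwoFusion.Quad Cfsg.Agent.Omega.ML.MinFrame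
open Cfsg.Agent.Omega.ML.Final (MLK)
open Cfsg.Agent.Omega.ML.Ex.Red (Mn)
open Cfsg.Agent.MinSimple.VModule (o2_isPGroup o2_le le_o2 le_normalizer_o2)

universe u v

variable {H : Type u} [Group H] {M : Type v} [Group M] [MulDistribMulAction H M] {T B Y : Subgroup H}
  {lam : Subgroup M}

namespace AbsI

theorem comm (h : AbsI T B Y lam) (x y : M) : x * y = y * x := Omega.ML.Ex.comm_of_sq' h.sq x y

theorem fixT (h : AbsI T B Y lam) {t : H} (ht : t ∈ T) {v : M} (hv : v ∈ lam) : t • v = v := by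
  by_cases hv1 : v = 1
  · rw [hv1, smul_one]
  · exact (h.stab v hv hv1 t).2 (h.TY ht)

theorem exists_ne (h : AbsI T B Y lam) : ∃ v ∈ lam, v ≠ 1 := by
  have h1 : lam ≠ ⊥ := by
    intro h1
    have := h.four
    rw [h1, card_bot] at this
    omega
  obtain ⟨v, hv⟩ := Subgroup.ne_bot_iff_exists_ne_one.1 h1
  exact ⟨v, v.2, fun h2 => hv (Subtype.ext h2)⟩

theorem orb_top (h : AbsI T B Y lam) {v : M} (hv : v ≠ 1) : orb (⊤ : Subgroup H) v = ⊤ := by
  refine (h.irr _ fun g w hw => smul_mem_orb (mem_top g) hw).resolve_left fun h1 => hv ?_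
  exact mem_bot.1 (h1 ▸ mem_orb_self (⊤ : Subgroup H) v)

/-- sub-exactness -/
theorem card_le_index [Finite H] [Finite M] (h : AbsI T B Y lam) (hK : IsKGroup H) (ml : MLK.{u, v}) {C : Subgroup H}
    (hC : C ≤ B) : Nat.card C ≤ (cv M (C : Set H)).index := by
  obtain ⟨v, hv, hv1⟩ := h.exists_ne
  have hst : ∀ g : H, g • v = v ↔ g ∈ Y := h.stab v hv hv1
  have h1 := ml H M hK h.sq T (o2 Y) C v (mem_top v) h.two le_top (by rw [relIndex_top_right]; exact h.syl)
    (fun t ht => h.fixT ht hv) (o2_isPGroup Y) le_top (fun q hq => (hst q).2 (o2_le Y hq))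
    (fun g _ hg q hq => (mem_normalizer_iff.1 (le_normalizer_o2 Y ((hst g).1 hg)) q).1 hq)
    (hC.trans (h.low Y h.TY h.Yne)) (fun a ha => h.el a (hC ha)) (fun hf => hf.elim)
  have h2 : fxr H (⊤ : Subgroup M) = ⊥ := by
    rw [eq_bot_iff]
    exact fun x hx => mem_bot.2 (h.faith x fun m => hx m (mem_top m))
  rw [h.orb_top hv1, h2, relIndex_bot_left, relIndex_top_right] at h1
  exact h1

/-- `|M : C_M(b)| ≥ |lam| ≥ 4` for `1 ≠ b` -/
theorem four_le_index [Finite M] (h : AbsI T B Y lam) {b : H} (hb1 : b ≠ 1) :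
    4 ≤ (cv M ({b} : Set H)).index := by
  obtain ⟨v, hv, hv1⟩ := h.exists_ne
  have h1 : ∃ g : H, b • g • v ≠ g • v := by
    by_contra hcon
    push Not at hcon
    apply hb1
    refine h.faith b fun m => ?_
    have h2 : orb (⊤ : Subgroup H) v ≤ cv M ({b} : Set H) := orb_le fun g _ => mem_cv_singleton.2 (hcon g)
    rw [h.orb_top hv1] at h2
    exact mem_cv_singleton.1 (h2 (mem_top m))
  obtain ⟨g, hg⟩ := h1
  have hgY : g⁻¹ * b * g ∉ Y := by
    intro h2
    apply hg
    have h3 := (h.stab v hv hv1 _).2 h2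
    rw [mul_smul, mul_smul, inv_smul_eq_iff] at h3
    exact h3
  have hcomm : IsMulCommutative M := ⟨⟨h.comm⟩⟩
  have hn : (cv M ({b} : Set H)).Normal := ⟨fun n hn g => by rwa [h.comm g n, mul_inv_cancel_right]⟩
  let L : Subgroup M := lam.map (MulDistribMulAction.toMonoidHom M g)
  have hL : Nat.card L = Nat.card lam := by
    refine Nat.card_congr (lam.equivMapOfInjective _ ?_).toEquiv.symm
    intro x y hxy
    exact smul_left_cancel g hxy
  have hd : cv M ({b} : Set H) ⊓ L = ⊥ := by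
    rw [eq_bot_iff]
    rintro _ ⟨hx, w, hw, rfl⟩
    rw [mem_bot]
    by_contra hne
    have hw1 : w ≠ 1 := by
      rintro rfl
      exact hne (map_one _)
    apply hgY
    rw [← h.stab w hw hw1, mul_smul, mul_smul, inv_smul_eq_iff]
    exact mem_cv_singleton.1 hx
  have h3 : (cv M ({b} : Set H)).relIndex L ∣ (cv M ({b} : Set H)).index := relIndex_dvd_index_of_normal _ _
  have h4 : (cv M ({b} : Set H)).relIndex L = Nat.card L := by
    rw [← inf_relIndex_right, hd, relIndex_bot_left]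
  rw [h4, hL] at h3
  exact h.four.trans (Nat.le_of_dvd (Nat.pos_of_ne_zero index_ne_zero_of_finite) h3)

/-- **The input of RED.** -/
theorem mn [Finite H] [Finite M] (h : AbsI T B Y lam) (hK : IsKGroup H) (ml : MLK.{u, v}) (hn : ¬ Nmax T)
    (hodd : ∀ N : Subgroup H, N.Normal → Odd (Nat.card N) → N = ⊥) {v : M} (hv : v ∈ lam) (hv1 : v ≠ 1) :
    ∃ B₁ ≤ B, Mn T B₁ v := by
  classical
  -- a minimal exact subgroup
  let P : ℕ → Prop := fun n => ∃ C : Subgroup H, C ≤ B ∧ C ≠ ⊥ ∧ (cv M (C : Set H)).index = Nat.card C ∧ Nat.card C = n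
  have hP : ∃ n, P n := ⟨_, B, le_rfl, h.Bne, h.exact, rfl⟩
  obtain ⟨B₁, hB₁, hne, hex, hcard⟩ := Nat.find_spec hP
  have hmin : ∀ C : Subgroup H, C ≤ B → C ≠ ⊥ → (cv M (C : Set H)).index = Nat.card C → Nat.card B₁ ≤ Nat.card C := by
    intro C hC hC1 hCe
    rw [hcard]
    exact Nat.find_min' hP ⟨C, hC, hC1, hCe, rfl⟩
  refine ⟨B₁, hB₁, ?_⟩
  have hatom : ∀ C : Subgroup H, C ≤ B₁ → C ≠ ⊥ → C ≠ B₁ → Nat.card C < (cv M (C : Set H)).index := by
    intro C hC hC1 hCB
    refine lt_of_le_of_ne (h.card_le_index hK ml (hC.trans hB₁)) fun he => ?_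
    have h1 := hmin C (hC.trans hB₁) hC1 he.symm
    exact hCB (Subgroup.eq_of_le_of_card_ge hC h1)
  obtain ⟨b, hb⟩ := Subgroup.ne_bot_iff_exists_ne_one.1 hne
  have hfour : 4 ≤ Nat.card B₁ := by
    rw [← hex]
    refine (h.four_le_index (b := (b : H)) fun h1 => hb (Subtype.ext h1)).trans ?_
    exact Nat.le_of_dvd (Nat.pos_of_ne_zero index_ne_zero_of_finite)
      (index_dvd_of_le (cv_anti (Set.singleton_subset_iff.2 b.2)))
  exact
    { sq := h.sq
      faith := h.faith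
      gen := h.orb_top hv1
      fixT := fun t ht => h.fixT ht hv
      odd := hodd
      two := h.two
      syl := h.syl
      el := fun b hb => h.el b (hB₁ hb)
      four := hfour
      exact := hex
      atom := hatom
      low := fun R hTR hR => hB₁.trans (h.low R hTR hR)
      nmax := hn }

end AbsI

end Cfsg.Agent.Omega.NO3b.EndX
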