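import Cfsg.Agent.Omega.NO3b.EndX.RedA
import Cfsg.Agent.Omega.NO3b.EndX.Comp

/-!
# The exact end of NotFF (v2), P6b, part B: the component given by THEOREM RED (helper907)

`AbsI T B Y lam` and `CmpM T B₁ K E v` (one component `E` and `[M,E]`):

* `CB.compDat` : `CompDat T E [M,E]`, given the field `simp`;
* `CB.card_lam_le` : `|lam| ≤ |C_{[M,E]}(N_T(E))|`.
-/

set_option autoImplicit false

namespace Cfsg.Agent.Omega.NO3b.EndX

open Subgroup Cfsg Cfsg.Agent.ZN Cfsg.Agent.ClassTwoFusion.Quad Cfsg.Agent.Omega.ML.MinFrame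
open Cfsg.Agent.Omega.ML.Ex.Red Cfsg.Agent.Omega.ML.CD

universe u v

variable {H : Type u} [Group H] {M : Type v} [Group M] [MulDistribMulAction H M] {T B Y : Subgroup H}
  {lam : Subgroup M} {B₁ K E : Subgroup H} {z : M}

/-- a simple group which is not abelian is generated by elements of odd order -/
theorem oo_of_simple {E : Type*} [Group E] [Finite E] (hs : IsSimpleGroup E) (hc : ¬ ∀ x y : E, x * y = y * x) :
    oo E = ⊤ := by
  rcases (oo_nrml (H := E)).eq_bot_or_eq_top with h1 | h1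
  · exfalso
    have h2 : IsPGroup 2 E := by
      intro x
      obtain ⟨a, m, hm, hx⟩ := Nat.exists_eq_two_pow_mul_odd (n := orderOf x) (orderOf_pos x).ne'
      refine ⟨a, ?_⟩
      have h3 : orderOf (x ^ 2 ^ a) = m := by
        rw [orderOf_pow' x (by positivity), hx, Nat.gcd_eq_right (dvd_mul_right _ _),
          Nat.mul_div_cancel_left _ (by positivity)]
      have h4 : x ^ 2 ^ a ∈ oo E := subset_closure (show Odd (orderOf (x ^ 2 ^ a)) by rw [h3]; exact hm)
      rw [h1] at h4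
      exact mem_bot.1 h4
    have h3 : Nontrivial (center E) := h2.center_nontrivial
    rcases (inferInstance : (center E).Normal).eq_bot_or_eq_top with h4 | h4
    · rw [h4] at h3
      exact not_subsingleton (⊥ : Subgroup E) inferInstance
    · exact hc fun x y => ((mem_center_iff.1 (h4 ▸ mem_top x : x ∈ center E)) y).symm
  · exact h1

/-- the two hypotheses -/
structure CB (T B Y : Subgroup H) (lam : Subgroup M) (B₁ K E : Subgroup H) (z : M) : Prop where
  a : AbsI T B Y lam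
  c : CmpM T B₁ K E z

namespace CB

theorem E_ne (h : CB T B Y lam B₁ K E z) : E ≠ ⊥ := by
  intro h1
  have hs := h.c.cmp.simple
  obtain ⟨x, hx⟩ := exists_ne (1 : E)
  exact hx (Subtype.ext (mem_bot.1 (h1 ▸ x.2)))

theorem Eoo [Finite H] (h : CB T B Y lam B₁ K E z) : E ≤ oo H := by
  have h1 : oo E = ⊤ := oo_of_simple h.c.cmp.simple fun hc => h.c.cmp.nc fun x hx => by
    rw [mem_centralizer_iff]
    exact fun y hy => congrArg Subtype.val (hc ⟨y, hy⟩ ⟨x, hx⟩)
  have h2 : oo E ≤ (oo H).comap E.subtype := by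
    rw [oo, closure_le]
    intro x hx
    exact subset_closure (show Odd (orderOf (E.subtype x)) by
      rw [coe_subtype, orderOf_coe]
      exact hx)
  rw [h1] at h2
  exact fun x hx => h2 (mem_top (⟨x, hx⟩ : E))

theorem oo_le_K (h : CB T B Y lam B₁ K E z) : oo H ≤ K := by
  have hn := h.c.cmp.normK
  have h1 : T.map (QuotientGroup.mk' K) = ⊤ := by
    rw [eq_top_iff]
    intro x _
    obtain ⟨y, rfl⟩ := QuotientGroup.mk'_surjective K x
    have h2 : y ∈ K ⊔ T := h.c.cmp.gen ▸ mem_top y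
    obtain ⟨k, hk, t, ht, rfl⟩ := mem_sup_of_normal_left.1 h2
    refine ⟨t, ht, ?_⟩
    rw [map_mul, (QuotientGroup.eq_one_iff k).2 hk |> fun e => (show QuotientGroup.mk' K k = 1 from e), one_mul]
  have h2 : IsPGroup 2 (T.map (QuotientGroup.mk' K)) := h.a.two.map _
  rw [oo, closure_le]
  intro x hx
  obtain ⟨n, hn2⟩ := h2 ⟨QuotientGroup.mk' K x, h1 ▸ mem_top _⟩
  have h3 : (QuotientGroup.mk' K x) ^ 2 ^ n = 1 := congrArg Subtype.val hn2
  have h4 : orderOf (QuotientGroup.mk' K x) ∣ 2 ^ n := orderOf_dvd_of_pow_eq_one h3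
  have h5 : orderOf (QuotientGroup.mk' K x) ∣ orderOf x := orderOf_map_dvd _ x
  have hx' : Odd (orderOf x) := hx
  have h6 : orderOf (QuotientGroup.mk' K x) = 1 :=
    Nat.eq_one_of_dvd_coprimes (Nat.Coprime.pow_left n (Nat.coprime_two_left.2 hx')) h4 h5
  exact (QuotientGroup.eq_one_iff x).1 (orderOf_eq_one_iff.1 h6)

theorem ooE (h : CB T B Y lam B₁ K E z) : oo H ≤ ⨆ t : T, E.map (MulAut.conj (t : H)).toMonoidHom :=
  h.oo_le_K.trans h.c.cmp.tcl

theorem conj_mem (h : CB T B Y lam B₁ K E z) {t e : H} (ht : t ∈ T) (hn : t ∉ normalizer (E : Set H)) (he : e ∈ E) :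
    t * e * t⁻¹ ∈ centralizer (E : Set H) :=
  h.c.cmp.conj t ht hn ⟨e, he, by simp⟩

theorem triv (h : CB T B Y lam B₁ K E z) {t : H} (ht : t ∈ T) (hn : t ∉ normalizer (E : Set H)) {e : H} (he : e ∈ E)
    {m : M} (hm : m ∈ cm M E) : (t * e * t⁻¹) • m = m :=
  h.c.cenN _ (h.c.cmp.normK.conj_mem _ (h.c.cmp.EK he) t) (h.conj_mem ht hn he) m hm

/-- `T` and `E` generate `H` -/
theorem top_of (h : CB T B Y lam B₁ K E z) {S : Subgroup H} (hT : T ≤ S) (hE : E ≤ S) : S = ⊤ := by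
  rw [eq_top_iff, ← h.c.cmp.gen]
  refine sup_le (h.c.cmp.tcl.trans (tcl_le fun t ht => ?_)) hT
  rintro _ ⟨e, he, rfl⟩
  exact mul_mem (mul_mem (hT ht) (hE he)) (inv_mem (hT ht))

theorem gen (h : CB T B Y lam B₁ K E z) (U : Subgroup M) (hU : ∀ t ∈ T, ∀ m ∈ cm M E, t • m ∈ U) : U = ⊤ := by
  let V : Subgroup M := closure {m | ∃ t ∈ T, ∃ n ∈ cm M E, m = t • n}
  have hVU : V ≤ U := by
    rw [closure_le]
    rintro _ ⟨t, ht, n, hn, rfl⟩
    exact hU t ht n hn
  have hinv : ∀ g : H, (∀ t ∈ T, ∀ n ∈ cm M E, g • t • n ∈ V) → ∀ m ∈ V, g • m ∈ V := by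
    intro g hg
    have h1 : V ≤ V.comap (MulDistribMulAction.toMonoidHom M g) := by
      conv_lhs => rw [show V = closure {m | ∃ t ∈ T, ∃ n ∈ cm M E, m = t • n} from rfl]
      rw [closure_le]
      rintro _ ⟨t, ht, n, hn, rfl⟩
      exact hg t ht n hn
    exact fun m hm => h1 hm
  let S : Subgroup H :=
    { carrier := {g | (∀ m ∈ V, g • m ∈ V) ∧ ∀ m ∈ V, g⁻¹ • m ∈ V}
      one_mem' := ⟨fun m hm => by rwa [one_smul], fun m hm => by rwa [inv_one, one_smul]⟩
      mul_mem' := fun {a b} ha hb => ⟨fun m hm => by rw [mul_smul]; exact ha.1 _ (hb.1 _ hm),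
        fun m hm => by rw [mul_inv_rev, mul_smul]; exact hb.2 _ (ha.2 _ hm)⟩
      inv_mem' := fun {a} ha => ⟨ha.2, by rw [inv_inv]; exact ha.1⟩ }
  have hT1 : ∀ t ∈ T, ∀ m ∈ V, t • m ∈ V := fun t ht => hinv t fun t' ht' n hn =>
    subset_closure ⟨t * t', mul_mem ht ht', n, hn, (mul_smul _ _ _).symm⟩
  have hE1 : ∀ e ∈ E, ∀ m ∈ V, e • m ∈ V := fun e he => hinv e fun t ht n hn => by
    have e1 : e • t • n = t • ((t⁻¹ * e * t) • n) := by
      rw [← mul_smul, ← mul_smul]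
      congr 1
      group
    rw [e1]
    by_cases htn : t⁻¹ ∈ normalizer (E : Set H)
    · have h2 : t⁻¹ * e * t ∈ E := by
        have := (mem_normalizer_iff.1 htn e).1 he
        rwa [inv_inv] at this
      exact subset_closure ⟨t, ht, _, smul_mem_cm (le_normalizer h2) hn, rfl⟩
    · have h2 := h.triv (inv_mem ht) htn he hn
      rw [inv_inv] at h2
      rw [h2]
      exact subset_closure ⟨t, ht, n, hn, rfl⟩
  have hS : S = ⊤ := h.top_of (fun t ht => ⟨hT1 t ht, hT1 _ (inv_mem ht)⟩) fun e he => ⟨hE1 e he, hE1 _ (inv_mem he)⟩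
  have hV : V = ⊤ := by
    refine (h.a.irr V fun g w hw => ?_).resolve_left fun h1 => ?_
    · have h2 : g ∈ S := hS ▸ mem_top g
      exact h2.1 w hw
    · apply h.c.ne
      intro e he n hn
      have h2 : n ∈ V := subset_closure ⟨1, one_mem _, n, hn, (one_smul _ _).symm⟩
      rw [h1, mem_bot] at h2
      rw [h2, smul_one]
  exact top_unique (hV.symm.le.trans hVU)

theorem fixE (h : CB T B Y lam B₁ K E z) {m : M} (hm : m ∈ cm M E) (he : ∀ e ∈ E, e • m = m) : m = 1 := by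
  have hn := h.c.cmp.normK
  have h1 : K ≤ MulAction.stabilizer H m := by
    rw [← h.c.cmp.sup]
    exact sup_le (fun e h2 => he e h2) fun f hf => h.c.cenN f hf.1 hf.2 m hm
  have h2 : ∀ g : H, ∀ w ∈ cv M (K : Set H), g • w ∈ cv M (K : Set H) := by
    intro g w hw k hk
    have h3 : g⁻¹ * k * g ∈ K := by
      have := hn.conj_mem k hk g⁻¹
      rwa [inv_inv] at this
    have h4 := hw _ h3
    rw [mul_smul, mul_smul, inv_smul_eq_iff] at h4
    exact h4
  rcases h.a.irr _ h2 with h3 | h3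
  · have h4 : m ∈ cv M (K : Set H) := fun k hk => h1 hk
    rw [h3] at h4
    exact mem_bot.1 h4
  · exfalso
    apply h.E_ne
    rw [eq_bot_iff]
    intro e he
    refine mem_bot.2 (h.a.faith e fun m => ?_)
    have h4 : m ∈ cv M (K : Set H) := h3 ▸ mem_top m
    exact h4 e (h.c.cmp.EK he)

/-- **The data of one component.** -/
theorem compDat [Finite H] (h : CB T B Y lam B₁ K E z)
    (simp : ∀ W ≤ cm M E, (∀ w ∈ W, ∀ s ∈ T ⊓ E, s • w = w) →
      (∀ n ∈ E ⊓ normalizer ((T ⊓ E : Subgroup H) : Set H), ∀ w ∈ W, n • w ∈ W) → W ≠ ⊥ →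
      ∀ m ∈ cm M E, (∀ s ∈ T ⊓ E, s • m = m) → m ∈ W) : CompDat T E (cm M E) where
  Eoo := h.Eoo
  ooE := h.ooE
  comm := by
    rintro t ht ⟨e, he, hte⟩ e₁ he₁ e₂ he₂
    have hn : t ∉ normalizer (E : Set H) := fun hn => hte ((mem_normalizer_iff.1 hn e).1 he)
    exact mem_centralizer_iff.1 (h.conj_mem ht hn he₂) e₁ he₁
  inv := fun e he m hm => smul_mem_cm (le_normalizer he) hm
  invT := fun t ht m hm => smul_mem_cm ht.2 hm
  triv := fun t ht hn e he m hm => h.triv ht hn he hm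
  gen := h.gen
  fixE := fun m hm he => h.fixE hm he
  simp := simp

/-- `M = [M,E] C_M(E)` -/
theorem exists_dec (h : CB T B Y lam B₁ K E z) (m : M) : ∃ n ∈ cm M E, ∃ c : M, (∀ e ∈ E, e • c = c) ∧ n * c = m := by
  have hc := h.a.comm
  have h1 : cm M E ⊔ cv M (E : Set H) = ⊤ := by
    refine h.gen _ fun t ht n hn => ?_
    by_cases htn : t ∈ normalizer (E : Set H)
    · exact mem_sup_left (smul_mem_cm htn hn)
    · refine mem_sup_right fun e he => ?_
      have htn' : t⁻¹ ∉ normalizer (E : Set H) := fun h2 => htn (by simpa using inv_mem h2)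
      have h2 := h.triv (inv_mem ht) htn' he hn
      rw [inv_inv, mul_smul, mul_smul, inv_smul_eq_iff] at h2
      exact h2
  obtain ⟨p, hp, q, hq, e⟩ := comp_mem_sup hc (h1 ▸ mem_top m : m ∈ cm M E ⊔ cv M (E : Set H))
  exact ⟨p, hp, q, hq, e⟩

/-- `|lam| ≤ |C_{[M,E]}(N_T(E))|` -/
theorem card_lam_le [Finite M] (h : CB T B Y lam B₁ K E z) :
    Nat.card lam ≤ Nat.card ↥(cm M E ⊓ cv M ((T ⊓ normalizer (E : Set H) : Subgroup H) : Set H)) := by
  have hcM := h.a.comm
  choose n hn c hc hnc using h.exists_dec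
  have hmem : ∀ v ∈ lam, n v ∈ cm M E ⊓ cv M ((T ⊓ normalizer (E : Set H) : Subgroup H) : Set H) := by
    intro v hv
    refine ⟨hn v, fun t ht => ?_⟩
    -- `n (t n)⁻¹ = c⁻¹ (t c)` is in `[M,E]` and fixed by `E`
    have h1 : t • n v * t • c v = n v * c v := by
      rw [← smul_mul', hnc, h.a.fixT ht.1 hv]
    have h2 : (n v)⁻¹ * t • n v = c v * (t • c v)⁻¹ := by
      rw [inv_mul_eq_iff_eq_mul, ← mul_assoc, eq_mul_inv_iff_mul_eq, h1]
    have h3 : (n v)⁻¹ * t • n v = 1 := by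
      refine h.fixE (mul_mem (inv_mem (hn v)) (smul_mem_cm ht.2 (hn v))) fun e he => ?_
      rw [h2]
      have h4 : e • t • c v = t • c v := by
        have h5 : t⁻¹ * e * t ∈ E := by
          have := (mem_normalizer_iff.1 (inv_mem ht.2) e).1 he
          rwa [inv_inv] at this
        have h6 := hc v _ h5
        rw [mul_smul, mul_smul, inv_smul_eq_iff] at h6
        exact h6
      rw [smul_mul', smul_inv', h4, hc v e he]
    rw [inv_mul_eq_one] at h3
    exact h3.symm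
  refine Nat.card_le_card_of_injective (fun v : lam => (⟨n v, hmem v v.2⟩ :
    ↥(cm M E ⊓ cv M ((T ⊓ normalizer (E : Set H) : Subgroup H) : Set H)))) ?_
  intro v w hvw
  have h1 : n v = n w := congrArg Subtype.val hvw
  by_contra hne
  have h2 : (v : M) * (w : M)⁻¹ ≠ 1 := fun h3 => hne (Subtype.ext (mul_inv_eq_one.1 h3))
  have h3 : (v : M) * (w : M)⁻¹ ∈ lam := mul_mem v.2 (inv_mem w.2)
  have h4 : (v : M) * (w : M)⁻¹ = c v * (c w)⁻¹ := by
    conv_lhs => rw [← hnc v, ← hnc w, h1]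
    rw [mul_inv_rev, hcM (n (w : M)) (c (v : M)), mul_assoc, hcM (c (w : M))⁻¹, mul_inv_cancel_left]
  have hst := h.a.stab _ h3 h2
  apply h.a.Yne
  refine h.top_of (S := Y) (fun t ht => h.a.TY ht) fun e he => ?_
  rw [← hst, h4, smul_mul', smul_inv', hc v e he, hc w e he]

end CB

end Cfsg.Agent.Omega.NO3b.EndX
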