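import Cfsg.Agent.Omega.NO3b.EndX.Def
import Cfsg.Agent.Omega.NO3b.Closed.Pair

/-!
# The exact end of NotFF (v2) (helper410, THEOREM END): the section

* `Sec T D X U lam π p` : `T ≤ X ≤ C_G(D)`, `X` normalises `U ≥ D`, `π : X → H` onto, `p : U → M` onto with kernel `D`,
  `p (u^x) = π x • p u`.
-/

set_option autoImplicit false

namespace Cfsg.Agent.Omega.NO3b.EndX

open Subgroup Cfsg Cfsg.Agent.ZN

universe u

/-- the section `(H, M) = (X / C_X(U / D), U / D)` -/
structure Sec {G : Type u} [Group G] (T D X U lam : Subgroup G) {H : Type u} [Group H] {M : Type u} [Group M]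
    [MulDistribMulAction H M] (π : X →* H) (p : U →* M) : Prop where
  TX : T ≤ X
  XD : X ≤ centralizer (D : Set G)
  XU : X ≤ normalizer (U : Set G)
  DU : D ≤ U
  lamU : lam ≤ U
  surj : Function.Surjective π
  psurj : Function.Surjective p
  ker : ∀ u : U, p u = 1 ↔ (u : G) ∈ D
  eqv : ∀ (x : X) (u u' : U), (u' : G) = x * u * (x : G)⁻¹ → p u' = π x • p u

end Cfsg.Agent.Omega.NO3b.EndX
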